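import Cfsg.Agent.Lib.Suzuki.Binary.Criterion

/-!
# General criteria for binary and non-binary coset actions
-/

set_option autoImplicit false
set_option linter.unusedSectionVars false

namespace Cfsg.Agent.PSLBinary

open MulAction
open Cfsg.Agent.Suzuki.Binary (BinAct IsConjOf Bad not_binAct mem_conj_iff mem_stab_iff smul_mk_eq_iff)

variable {G : Type*} [Group G]

theorem isConjOf_refl (H : Subgroup G) : IsConjOf H H := ⟨1, by rw [map_one]; exact H.map_id⟩

theorem isConjOf_trans {H A B : Subgroup G} (h : IsConjOf H A) (h' : IsConjOf A B) : IsConjOf H B := by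
  obtain ⟨g, rfl⟩ := h
  obtain ⟨g', rfl⟩ := h'
  refine ⟨g' * g, ?_⟩
  rw [Subgroup.map_map, map_mul]
  rfl

theorem isConjOf_symm {H A : Subgroup G} (h : IsConjOf H A) : IsConjOf A H := by
  obtain ⟨g, rfl⟩ := h
  refine ⟨g⁻¹, ?_⟩
  rw [Subgroup.map_map]
  refine Eq.trans ?_ H.map_id
  congr 1
  ext z
  simp [mul_assoc]

theorem bad_of_conj {H A : Subgroup G} (h : IsConjOf H A) (hA : Bad A) : Bad H := by
  obtain ⟨P, Q, R, hP, hQ, hR, rest⟩ := hA
  exact ⟨P, Q, R, isConjOf_trans h hP, isConjOf_trans h hQ, isConjOf_trans h hR, rest⟩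

theorem natCard_of_isConjOf {H A : Subgroup G} (h : IsConjOf H A) : Nat.card A = Nat.card H := by
  obtain ⟨g, rfl⟩ := h
  exact Subgroup.card_map_of_injective (MulAut.conj g).injective

/-- Binarity only depends on the pair up to isomorphism. -/
theorem binAct_map {G' : Type*} [Group G'] (e : G ≃* G') {H : Subgroup G} (h : BinAct G H) :
    BinAct G' (H.map e.toMonoidHom) := by
  intro n I J hn hpair
  have hiff : ∀ x : G, e x ∈ H.map e.toMonoidHom ↔ x ∈ H := fun x => by
    rw [Subgroup.mem_map]
    exact ⟨fun ⟨y, hy, he⟩ => e.injective he ▸ hy, fun hx => ⟨x, hx, rfl⟩⟩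
  let ι : G' ⧸ H.map e.toMonoidHom → G ⧸ H := fun p => Quotient.liftOn' p
    (fun x => ((e.symm x : G) : G ⧸ H)) fun x y hxy => by
      rw [QuotientGroup.leftRel_apply] at hxy
      rw [QuotientGroup.eq, ← hiff]
      simpa using hxy
  have hι : Function.Injective ι := by
    intro p q h'
    induction p using QuotientGroup.induction_on with
    | H x =>
      induction q using QuotientGroup.induction_on with
      | H y =>
        have h'' : ((e.symm x : G) : G ⧸ H) = (e.symm y : G) := h'
        rw [QuotientGroup.eq, ← hiff] at h''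
        rw [QuotientGroup.eq]
        simpa using h''
  have heq : ∀ (x : G') (p : G' ⧸ H.map e.toMonoidHom), ι (x • p) = e.symm x • ι p := by
    intro x p
    induction p using QuotientGroup.induction_on with
    | H y =>
      show ((e.symm (x * y) : G) : G ⧸ H) = _
      rw [map_mul]
      rfl
  obtain ⟨x, hx⟩ := h n (ι ∘ I) (ι ∘ J) hn fun i j hij => by
    obtain ⟨x, h1, h2⟩ := hpair i j hij
    exact ⟨e.symm x, by rw [Function.comp_apply, ← heq, h1]; rfl,
      by rw [Function.comp_apply, ← heq, h2]; rfl⟩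
  refine ⟨e x, fun i => hι ?_⟩
  rw [heq, MulEquiv.symm_apply_apply]
  exact hx i

theorem binAct_of_map {G' : Type*} [Group G'] (e : G ≃* G') {H : Subgroup G}
    (h : BinAct G' (H.map e.toMonoidHom)) : BinAct G H := by
  have := binAct_map e.symm h
  rwa [Subgroup.map_map, show e.symm.toMonoidHom.comp e.toMonoidHom = MonoidHom.id G by ext; simp,
    Subgroup.map_id] at this

/-- A point stabiliser of a binary action is binary on each of its orbits. -/
theorem binAct_suborbit {H : Subgroup G} (h : BinAct G H) (g : G) :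
    BinAct H ((H.map (MulAut.conj g).toMonoidHom).subgroupOf H) := by
  classical
  generalize hK : (H.map (MulAut.conj g).toMonoidHom).subgroupOf H = K
  intro n I J hn hpair
  let ι : H ⧸ K → G ⧸ H := fun p => Quotient.liftOn' p (fun x => (x : G) • (g : G ⧸ H)) fun x y hxy => by
    rw [QuotientGroup.leftRel_apply, ← hK, Subgroup.mem_subgroupOf] at hxy
    exact smul_mk_eq_iff.2 hxy
  have hι : Function.Injective ι := by
    intro p q hpq
    induction p using QuotientGroup.induction_on with
    | H x =>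
      induction q using QuotientGroup.induction_on with
      | H y =>
        rw [QuotientGroup.eq, ← hK, Subgroup.mem_subgroupOf]
        exact smul_mk_eq_iff.1 hpq
  have heq : ∀ (x : H) (p : H ⧸ K), ι (x • p) = (x : G) • ι p := by
    intro x p
    induction p using QuotientGroup.induction_on with
    | H y => exact (smul_smul (x : G) (y : G) _).symm
  have hfix : ∀ x : H, (x : G) • ((1 : G) : G ⧸ H) = ((1 : G) : G ⧸ H) := fun x => by
    refine mem_stab_iff.1 ?_
    rw [mem_conj_iff]
    simp
  obtain ⟨x, hx⟩ := h (n + 1) (Fin.cons ((1 : G) : G ⧸ H) (ι ∘ I))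
    (Fin.cons ((1 : G) : G ⧸ H) (ι ∘ J)) (by omega) (fun i j hij => by
      have hbase : ∀ k : Fin n, ∃ a : H, a • I k = J k := fun k => by
        obtain ⟨k', hk'⟩ : ∃ k' : Fin n, k' ≠ k := Fintype.exists_ne_of_one_lt_card (by simp; omega) k
        obtain ⟨a, h1, -⟩ := hpair k k' hk'.symm
        exact ⟨a, h1⟩
      induction i using Fin.cases with
      | zero =>
        induction j using Fin.cases with
        | zero => exact absurd rfl hij
        | succ j =>
          obtain ⟨a, ha⟩ := hbase j
          exact ⟨a, by simpa using hfix a, by simp [← heq, ha]⟩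
      | succ i =>
        induction j using Fin.cases with
        | zero =>
          obtain ⟨a, ha⟩ := hbase i
          exact ⟨a, by simp [← heq, ha], by simpa using hfix a⟩
        | succ j =>
          obtain ⟨a, h1, h2⟩ := hpair i j fun e => hij (by rw [e])
          exact ⟨a, by simp [← heq, h1], by simp [← heq, h2]⟩)
  have hxH : x ∈ H := by
    have h0 := hx 0
    simp only [Fin.cons_zero] at h0
    have := mem_stab_iff.2 h0
    rw [mem_conj_iff] at this
    simpa using this
  refine ⟨⟨x, hxH⟩, fun i => hι ?_⟩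
  rw [heq]
  simpa using hx i.succ

/-- Conjugates with elements `x`, `y`, `x⁻¹ y` must coincide: then the action is binary. -/
theorem binAct_of_triangle {H : Subgroup G}
    (htri : ∀ a b c : G, ∀ x ∈ H.map (MulAut.conj a).toMonoidHom,
      ∀ y ∈ H.map (MulAut.conj b).toMonoidHom, x⁻¹ * y ∈ H.map (MulAut.conj c).toMonoidHom →
      x ≠ 1 → y ≠ 1 → H.map (MulAut.conj a).toMonoidHom = H.map (MulAut.conj b).toMonoidHom) :
    BinAct G H := by
  intro n I J hn hpair
  classical
  have hrep : ∀ i, ∃ g : G, (g : G ⧸ H) = I i := fun i => QuotientGroup.mk_surjective (I i)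
  choose r hr using hrep
  let S : Fin n → Subgroup G := fun i => H.map (MulAut.conj (r i)).toMonoidHom
  have hfix : ∀ i x, x ∈ S i → x • I i = I i := fun i x hx => by
    rw [← hr i]; exact mem_stab_iff.1 hx
  have hmem : ∀ i x, x • I i = I i → x ∈ S i := fun i x hx => by
    rw [← hr i] at hx; exact mem_stab_iff.2 hx
  by_cases hall : ∀ i j, S i = S j
  · have i₀ : Fin n := ⟨0, by omega⟩
    obtain ⟨i₁, hi₁⟩ : ∃ i₁ : Fin n, i₁ ≠ i₀ := Fintype.exists_ne_of_one_lt_card (by simp; omega) i₀
    obtain ⟨g₀, hg₀, -⟩ := hpair i₀ i₁ hi₁.symm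
    refine ⟨g₀, fun k => ?_⟩
    by_cases hk : i₀ = k
    · subst hk; exact hg₀
    obtain ⟨g, h1, h2⟩ := hpair i₀ k hk
    have hd : g₀⁻¹ * g ∈ S k := by
      rw [← hall i₀ k]
      exact hmem _ _ (by rw [mul_smul, h1, ← hg₀, inv_smul_smul])
    rw [← h2]
    conv_lhs => rw [← hfix k _ hd]
    rw [smul_smul, mul_inv_cancel_left]
  · push Not at hall
    obtain ⟨i, j, hij⟩ := hall
    have hne : i ≠ j := fun e => hij (by rw [e])
    obtain ⟨g, hgi, hgj⟩ := hpair i j hne
    refine ⟨g, fun k => ?_⟩
    by_cases hki : i = k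
    · subst hki; exact hgi
    by_cases hkj : j = k
    · subst hkj; exact hgj
    obtain ⟨a, ha1, ha2⟩ := hpair i k hki
    obtain ⟨b, hb1, hb2⟩ := hpair j k hkj
    have hA : g⁻¹ * a ∈ S i := hmem _ _ (by rw [mul_smul, ha1, ← hgi, inv_smul_smul])
    have hB : g⁻¹ * b ∈ S j := hmem _ _ (by rw [mul_smul, hb1, ← hgj, inv_smul_smul])
    set u := g⁻¹ * a with hu
    set v := g⁻¹ * b with hv
    have hC : u⁻¹ * v ∈ S k := hmem _ _ (by
      rw [mul_smul, inv_smul_eq_iff, hu, hv, mul_smul, mul_smul, ha2, hb2])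
    have hfixk : u • I k = I k := by
      by_cases hu1 : u = 1
      · rw [hu1, one_smul]
      by_cases hv1 : v = 1
      · refine hfix k u ?_
        rw [hv1, mul_one] at hC
        exact inv_mem_iff.1 hC
      exact absurd (htri _ _ _ u hA v hB hC hu1 hv1) hij
    rw [← ha2]
    conv_lhs => rw [← hfixk]
    rw [smul_smul, hu, mul_inv_cancel_left]

end Cfsg.Agent.PSLBinary
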