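import Cfsg.Agent.Lib.PSLBinary.Invol
import Cfsg.Agent.Lib.PSLBinary.Criterion

/-!
# Subgroups centralising an involution, and subgroups meeting their conjugates trivially
-/

set_option autoImplicit false
set_option linter.unusedSectionVars false

namespace Cfsg.Agent.PSLBinary

open Matrix
open scoped MatrixGroups
open Cfsg.Agent.Suzuki.Binary (BinAct IsConjOf Bad mem_conj_iff)

variable {F : Type*} [Field F] [Fintype F]

local notation "PG" => Matrix.ProjectiveSpecialLinearGroup (Fin 2) F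

variable (h2 : (2 : F) ≠ 0)

include h2 in
theorem involutions_conj {x y : PG} (hx : orderOf x = 2) (hy : orderOf y = 2) : IsConj x y :=
  Forms.KleinPSL.involutions_isConj h2 x y hx hy

theorem orderOf_mul_two {G : Type*} [Group G] {x y : G} (hx : orderOf x = 2) (hy : orderOf y = 2)
    (hne : x ≠ y) (hc : Commute x y) : orderOf (x * y) = 2 := by
  refine orderOf_eq_prime (hp := ⟨Nat.prime_two⟩) ?_ fun e => hne ?_
  · rw [hc.mul_pow, ← hx, pow_orderOf_eq_one, one_mul, hx, ← hy, pow_orderOf_eq_one]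
  · rw [eq_inv_of_mul_eq_one_left e, inv_of_two hy]

open scoped _root_.Classical in
include h2 in
/-- For a class of perpendicular pairs there is a four-group through `x` missing two of the
partners of `x`. -/
theorem exists_four_avoid [Fintype PG] (h7 : 7 ≤ Fintype.card F) {x a : PG} (hx : orderOf x = 2)
    (ha : orderOf a = 2) (hne : a ≠ x) (hc : Commute x a) :
    ∃ y : PG, orderOf y = 2 ∧ y ≠ x ∧ Commute x y ∧ ∃ u u' : PG, u * x * u⁻¹ = x ∧ u' * x * u'⁻¹ = x ∧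
      u * a * u⁻¹ ≠ u' * a * u'⁻¹ ∧ (u * a * u⁻¹ ≠ y ∧ u * a * u⁻¹ ≠ x * y) ∧
      (u' * a * u'⁻¹ ≠ y ∧ u' * a * u'⁻¹ ≠ x * y) := by
  obtain ⟨h4, h8⟩ := card_circ h2 h7
  set C := Finset.univ.filter fun u : PG => u ∈ Subgroup.centralizer ({x} : Set PG) with hC
  have hCcard : C.card = Nat.card (Forms.KleinSL2.Circ F 1) := by
    rw [← natCard_centralizer_invol h2 hx, hC, ← Fintype.card_subtype, ← Nat.card_eq_fintype_card]
  have hmemC : ∀ u, u ∈ C ↔ u * x * u⁻¹ = x := fun u => by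
    simp only [hC, Finset.mem_filter, Finset.mem_univ, true_and, Subgroup.mem_centralizer_singleton_iff,
      mul_inv_eq_iff_eq_mul]
  set perp := Finset.univ.filter fun b : PG => orderOf b = 2 ∧ b ≠ x ∧ Commute x b with hperp
  have hmemP : ∀ b, b ∈ perp ↔ orderOf b = 2 ∧ b ≠ x ∧ Commute x b := fun b => by simp [hperp]
  have hP : C.card ≤ 2 * perp.card := hCcard ▸ card_perp h2 hx
  set O := C.image fun u => u * a * u⁻¹ with hO
  have hxa : orderOf (x * a) = 2 := orderOf_mul_two hx ha (Ne.symm hne) hc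
  have h1x : (1 : PG) ≠ x := fun e => by rw [← e, orderOf_one] at hx; exact absurd hx (by norm_num)
  have h1a : (1 : PG) ≠ a := fun e => by rw [← e, orderOf_one] at ha; exact absurd ha (by norm_num)
  have h1xa : (1 : PG) ≠ x * a := fun e => by rw [← e, orderOf_one] at hxa; exact absurd hxa (by norm_num)
  have hxxa : x ≠ x * a := fun e => h1a (mul_eq_left.1 e.symm).symm
  have haxa : a ≠ x * a := fun e => h1x (mul_eq_right.1 e.symm).symm
  have hstab : (C.filter fun u => u * a * u⁻¹ = a).card = 4 := by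
    rw [show C.filter (fun u => u * a * u⁻¹ = a) = {1, x, a, x * a} from ?_,
      Finset.card_insert_of_notMem (by simp [h1x, h1a, h1xa]),
      Finset.card_insert_of_notMem (by simp [Ne.symm hne, hxxa]), Finset.card_pair haxa]
    ext u
    simp only [Finset.mem_filter, hmemC, Finset.mem_insert, Finset.mem_singleton, mul_inv_eq_iff_eq_mul]
    constructor
    · exact fun ⟨h, h'⟩ => mem_four h2 hx ha (Ne.symm hne) hc h h'
    · rintro (rfl | rfl | rfl | rfl)
      · simp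
      · exact ⟨rfl, hc.eq⟩
      · exact ⟨hc.eq.symm, rfl⟩
      · exact ⟨((Commute.refl x).mul_left hc.symm).eq, (hc.mul_left (Commute.refl a)).eq⟩
  have hfib : C.card = 4 * O.card := by
    rw [Finset.card_eq_sum_card_image (fun u => u * a * u⁻¹) C, ← hO, Finset.sum_const_nat (m := 4) ?_, mul_comm]
    intro b hb
    obtain ⟨v, hv, rfl⟩ := Finset.mem_image.1 hb
    rw [← hstab]
    refine Finset.card_bij' (fun u _ => v⁻¹ * u) (fun u _ => v * u) ?_ ?_ (fun u _ => by group) (fun u _ => by group)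
    · intro u hu
      simp only [Finset.mem_filter, hmemC] at hu hv ⊢
      refine ⟨?_, ?_⟩
      · calc v⁻¹ * u * x * (v⁻¹ * u)⁻¹ = v⁻¹ * (u * x * u⁻¹) * v := by group
          _ = v⁻¹ * (v * x * v⁻¹) * v := by rw [hu.1, hv]
          _ = x := by group
      · calc v⁻¹ * u * a * (v⁻¹ * u)⁻¹ = v⁻¹ * (u * a * u⁻¹) * v := by group
          _ = v⁻¹ * (v * a * v⁻¹) * v := by rw [hu.2]
          _ = a := by group
    · intro u hu
      simp only [Finset.mem_filter, hmemC] at hu hv ⊢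
      refine ⟨?_, ?_⟩
      · calc v * u * x * (v * u)⁻¹ = v * (u * x * u⁻¹) * v⁻¹ := by group
          _ = x := by rw [hu.1, hv]
      · calc v * u * a * (v * u)⁻¹ = v * (u * a * u⁻¹) * v⁻¹ := by group
          _ = v * a * v⁻¹ := by rw [hu.2]
  have hOP : O ⊆ perp := fun b hb => by
    obtain ⟨u, hu, rfl⟩ := Finset.mem_image.1 hb
    rw [hmemC] at hu
    have e := MulAut.conj u
    refine (hmemP _).2 ⟨?_, fun e => hne ?_, ?_⟩
    · rw [show u * a * u⁻¹ = MulAut.conj u a from rfl, MulEquiv.orderOf_eq, ha]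
    · exact (MulAut.conj u).injective (e.trans hu.symm)
    · have h' := hc.map (MulAut.conj u).toMonoidHom
      change Commute (u * x * u⁻¹) (u * a * u⁻¹) at h'
      rwa [hu] at h'
  have build : ∀ y ∈ perp, ∀ b ∈ O, ∀ b' ∈ O, b ≠ b' → (b ≠ y ∧ b ≠ x * y) → (b' ≠ y ∧ b' ≠ x * y) →
      ∃ y : PG, orderOf y = 2 ∧ y ≠ x ∧ Commute x y ∧ ∃ u u' : PG, u * x * u⁻¹ = x ∧ u' * x * u'⁻¹ = x ∧
        u * a * u⁻¹ ≠ u' * a * u'⁻¹ ∧ (u * a * u⁻¹ ≠ y ∧ u * a * u⁻¹ ≠ x * y) ∧
        (u' * a * u'⁻¹ ≠ y ∧ u' * a * u'⁻¹ ≠ x * y) := by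
    intro y hy b hb b' hb' h1 h2' h3
    obtain ⟨u, hu, rfl⟩ := Finset.mem_image.1 hb
    obtain ⟨u', hu', rfl⟩ := Finset.mem_image.1 hb'
    obtain ⟨y1, y2, y3⟩ := (hmemP y).1 hy
    exact ⟨y, y1, y2, y3, u, u', (hmemC u).1 hu, (hmemC u').1 hu', h1, h2', h3⟩
  rcases eq_or_ne O.card 2 with hn | hn
  · -- the centraliser has order eight
    obtain ⟨b, hb⟩ : ∃ b, b ∈ perp \ ({a, x * a} : Finset PG) := by
      refine Finset.card_pos.1 ?_
      have := Finset.card_le_card_sdiff_add_card (s := perp) (t := ({a, x * a} : Finset PG))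
      have : ({a, x * a} : Finset PG).card ≤ 2 := Finset.card_le_two
      omega
    simp only [Finset.mem_sdiff, Finset.mem_insert, Finset.mem_singleton, not_or] at hb
    have haO : a ∈ O := Finset.mem_image.2 ⟨1, (hmemC 1).2 (by simp), by simp⟩
    obtain ⟨b₁, hb₁, hb₁a⟩ : ∃ b₁ ∈ O, b₁ ≠ a := Finset.exists_mem_ne (by omega) a
    obtain ⟨u, hu, rfl⟩ := Finset.mem_image.1 hb₁
    -- the stabiliser is normal
    have hb₁' : u * a * u⁻¹ = x * a := by
      let Cx : Subgroup PG := Subgroup.centralizer ({x} : Set PG)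
      let S : Subgroup Cx := (Subgroup.centralizer ({a} : Set PG)).subgroupOf Cx
      have hS : S.index = 2 := by
        have h := S.card_mul_index
        have hc4 : Nat.card S = 4 := by
          rw [← hstab, ← Nat.card_eq_finsetCard]
          refine Nat.card_congr
            { toFun := fun s => ⟨s.1.1, ?_⟩
              invFun := fun s => ⟨⟨s.1, ?_⟩, ?_⟩
              left_inv := fun s => rfl
              right_inv := fun s => rfl }
          · simp only [Finset.mem_filter, hC, Finset.mem_univ, true_and]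
            exact ⟨s.1.2, mul_inv_eq_iff_eq_mul.2 (Subgroup.mem_centralizer_singleton_iff.1 s.2)⟩
          · have := (Finset.mem_filter.1 s.2).1
            simpa [hC] using this
          · exact Subgroup.mem_centralizer_singleton_iff.2 (mul_inv_eq_iff_eq_mul.1 (Finset.mem_filter.1 s.2).2)
        have hcx : Nat.card Cx = 4 * 2 := (natCard_centralizer_invol h2 hx).trans (by omega)
        rw [hc4, hcx] at h
        omega
      have : S.Normal := Subgroup.normal_of_index_eq_two hS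
      have huC : u ∈ Cx := Subgroup.mem_centralizer_singleton_iff.2 (mul_inv_eq_iff_eq_mul.1 ((hmemC u).1 hu))
      have haC : a ∈ Cx := Subgroup.mem_centralizer_singleton_iff.2 hc.eq.symm
      have := this.conj_mem ⟨a, haC⟩ (Subgroup.mem_centralizer_singleton_iff.2 rfl) ⟨u, huC⟩
      have hga : Commute (u * a * u⁻¹) a := Subgroup.mem_centralizer_singleton_iff.1 this
      obtain ⟨o, o', o''⟩ := (hmemP _).1 (hOP hb₁)
      rcases mem_four h2 hx ha (Ne.symm hne) hc o''.symm hga with e | e | e | e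
      · rw [e, orderOf_one] at o; omega
      · exact absurd e o'
      · exact absurd e hb₁a
      · exact e
    refine build b hb.1 a haO _ hb₁ (Ne.symm hb₁a) ⟨Ne.symm hb.2.1, fun e => hb.2.2 ?_⟩ ?_
    · rw [e, ← mul_assoc, Forms.KleinPSL.mul_self_of_order_two hx, one_mul]
    · rw [hb₁']
      exact ⟨fun e => hb.2.2 e.symm, fun e => hb.2.1 (mul_left_cancel e).symm⟩
  · have hO2 : 2 ≤ O.card := by omega
    obtain ⟨y, hy⟩ : ∃ y, y ∈ perp \ O := by
      refine Finset.card_pos.1 ?_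
      have := Finset.card_le_card_sdiff_add_card (s := perp) (t := O)
      omega
    rw [Finset.mem_sdiff] at hy
    have h2' : 1 < (O.erase (x * y)).card := by
      have := Finset.pred_card_le_card_erase (s := O) (a := x * y)
      omega
    obtain ⟨b, hb, b', hb', hbb⟩ := Finset.one_lt_card.1 h2'
    rw [Finset.mem_erase] at hb hb'
    exact build y hy.1 b hb.2 b' hb'.2 hbb ⟨fun e => hy.2 (e ▸ hb.2), hb.1⟩ ⟨fun e => hy.2 (e ▸ hb'.2), hb'.1⟩

include h2 in
/-- A subgroup centralising an involution `a₀` and containing another one. -/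
theorem bad_of_central_invol (h7 : 7 ≤ Fintype.card F) {H : Subgroup PG} {a₀ r : PG}
    (ha₀ : orderOf a₀ = 2) (hr : orderOf r = 2) (hne : a₀ ≠ r) (hrH : r ∈ H)
    (hle : ∀ g ∈ H, Commute g a₀) : Bad H := by
  classical
  haveI : Fintype PG := Fintype.ofFinite _
  have hcr : Commute r a₀ := hle r hrH
  -- the pairs conjugate to `(a₀, r)`
  let P : PG → PG → Prop := fun a x => ∃ g : PG, g * a₀ * g⁻¹ = a ∧ g * r * g⁻¹ = x
  have hPconj : ∀ h a x, P a x → P (h * a * h⁻¹) (h * x * h⁻¹) := by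
    rintro h _ _ ⟨g, rfl, rfl⟩
    exact ⟨h * g, by group, by group⟩
  have hPdata : ∀ a x, P a x → orderOf a = 2 ∧ a ≠ x ∧ Commute x a ∧
      ∃ A : Subgroup PG, IsConjOf H A ∧ x ∈ A ∧ ∀ g ∈ A, Commute g a := by
    rintro _ _ ⟨g, rfl, rfl⟩
    refine ⟨?_, fun e => hne ((MulAut.conj g).injective e), hcr.map (MulAut.conj g).toMonoidHom, _, ⟨g, rfl⟩,
      ⟨r, hrH, rfl⟩, ?_⟩
    · rw [show g * a₀ * g⁻¹ = MulAut.conj g a₀ from rfl, MulEquiv.orderOf_eq, ha₀]
    · rintro _ ⟨s, hs, rfl⟩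
      exact (hle s hs).map (MulAut.conj g).toMonoidHom
  obtain ⟨y, hy, hyx, hxy, u, u', hu, hu', huu, hU, hU'⟩ :=
    exists_four_avoid h2 h7 hr ha₀ hne hcr
  set z := r * y with hz
  have hzo : orderOf z = 2 := orderOf_mul_two hr hy (Ne.symm hyx) hxy
  obtain ⟨h, hxh, hyh, hzh⟩ := exists_cycle h2 hr hy (Ne.symm hyx) hxy
  rw [← hz] at hyh hzh
  -- the partners
  have hP1 : P (u * a₀ * u⁻¹) r := ⟨u, rfl, hu⟩
  have hP1' : P (u' * a₀ * u'⁻¹) r := ⟨u', rfl, hu'⟩
  set a₁ := u * a₀ * u⁻¹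
  set a₂ := u' * a₀ * u'⁻¹
  have hP2 : ∀ {a}, P a r → P (h * a * h⁻¹) y := fun p => hxh ▸ hPconj h _ _ p
  have hP3 : ∀ {a}, P a r → P (h * (h * a * h⁻¹) * h⁻¹) z := fun p => hyh ▸ hPconj h _ _ (hP2 p)
  have out2 : ∀ {a}, a ≠ r → a ≠ y → a ≠ z →
      h * a * h⁻¹ ≠ r ∧ h * a * h⁻¹ ≠ y ∧ h * a * h⁻¹ ≠ z := by
    intro a h1 h2' h3
    refine ⟨fun e => h3 ((MulAut.conj h).injective ?_), fun e => h1 ((MulAut.conj h).injective ?_),
      fun e => h2' ((MulAut.conj h).injective ?_)⟩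
    · show h * a * h⁻¹ = h * z * h⁻¹
      rw [e, hzh]
    · show h * a * h⁻¹ = h * r * h⁻¹
      rw [e, hxh]
    · show h * a * h⁻¹ = h * y * h⁻¹
      rw [e, hyh]
  -- elements commuting with two members of the four-group lie in it
  have four_x : ∀ {g : PG}, Commute g r → Commute g y → g = 1 ∨ g = r ∨ g = y ∨ g = z :=
    fun h1 h2' => mem_four h2 hr hy (Ne.symm hyx) hxy h1 h2'
  have hxz : Commute r z := (Commute.refl r).mul_right hxy
  have hyz : Commute y z := hxy.symm.mul_right (Commute.refl y)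
  have four_z : ∀ {g : PG}, Commute g r → Commute g z → g = 1 ∨ g = r ∨ g = y ∨ g = z := fun {g} h1 h2' => by
    refine four_x h1 ?_
    have := h1.mul_right h2'
    rwa [hz, ← mul_assoc, Forms.KleinPSL.mul_self_of_order_two hr, one_mul] at this
  have notV : ∀ {a : PG}, orderOf a = 2 → a ≠ r → a ≠ y → a ≠ z → ¬(a = 1 ∨ a = r ∨ a = y ∨ a = z) := by
    rintro a ha h1 h2' h3 (rfl | e | e | e)
    · rw [orderOf_one] at ha; omega
    · exact h1 e
    · exact h2' e
    · exact h3 e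
  -- the choice of `a`
  obtain ⟨ha₁o, ha₁x, ha₁c, A, hA, hxA, hAa⟩ := hPdata _ _ hP1
  set b₁ := h * a₁ * h⁻¹
  set b₂ := h * a₂ * h⁻¹
  obtain ⟨ha₂o, ha₂x, ha₂c, -⟩ := hPdata _ _ hP1'
  have hb12 : b₁ ≠ b₂ := fun e => huu ((MulAut.conj h).injective e)
  have hay : ¬ Commute a₁ y := fun c => notV ha₁o ha₁x hU.1 hU.2 (four_x ha₁c.symm c)
  obtain ⟨b, hb, hab, hbout⟩ : ∃ b, P b y ∧ ¬ Commute a₁ b ∧ (b ≠ r ∧ b ≠ y ∧ b ≠ z) := by
    by_cases hc1 : Commute a₁ b₁
    · refine ⟨b₂, hP2 hP1', fun hc2 => hb12 ?_, out2 ha₂x hU'.1 hU'.2⟩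
      obtain ⟨o1, n1, c1, -⟩ := hPdata _ _ (hP2 hP1)
      obtain ⟨o2, n2, c2, -⟩ := hPdata _ _ (hP2 hP1')
      exact unique_perp h2 hy (fun e => by rw [e, orderOf_one] at ha₁o; omega) (fun c => hay c.symm)
        o1 c1.symm hc1.symm n1 o2 c2.symm hc2.symm n2
    · exact ⟨b₁, hP2 hP1, hc1, out2 ha₁x hU.1 hU.2⟩
  obtain ⟨hbo, hby, hbc, B, hB, hyB, hBb⟩ := hPdata _ _ hb
  set c₁ := h * b₁ * h⁻¹
  set c₂ := h * b₂ * h⁻¹
  have hc12 : c₁ ≠ c₂ := fun e => hb12 ((MulAut.conj h).injective e)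
  have hcP1 : P c₁ z := hP3 hP1
  have hcP2 : P c₂ z := hP3 hP1'
  obtain ⟨co1, cn1, cc1, -⟩ := hPdata _ _ hcP1
  obtain ⟨co2, cn2, cc2, -⟩ := hPdata _ _ hcP2
  -- the possible common elements of `A` and `B`
  have hg0 : ∀ g : PG, g ≠ 1 → Commute g a₁ → Commute g b → orderOf g = 2 ∧ g ≠ r ∧ g ≠ y ∧ g ≠ z ∧
      g ≠ a₁ := by
    intro g hg1 hga hgb
    have hgo := invol_of_cent h2 ha₁o hbo hab hg1 hga hgb
    refine ⟨hgo, fun e => ?_, fun e => ?_, fun e => ?_, fun e => ?_⟩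
    · rw [e] at hgb
      exact notV hbo hbout.1 hbout.2.1 hbout.2.2 (four_x hgb.symm hbc.symm)
    · rw [e] at hga
      exact hay hga.symm
    · rw [e] at hga
      exact notV ha₁o ha₁x hU.1 hU.2 (four_z ha₁c.symm hga.symm)
    · rw [e] at hgb
      exact hab hgb
  obtain ⟨c, hc, hgood, hcout⟩ : ∃ c, P c z ∧
      (∀ g : PG, g ≠ 1 → Commute g a₁ → Commute g b → ¬ Commute c (r * g)) ∧
      (c ≠ r ∧ c ≠ y ∧ c ≠ z) := by
    obtain ⟨i1, i2, i3⟩ := out2 ha₁x hU.1 hU.2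
    obtain ⟨j1, j2, j3⟩ := out2 ha₂x hU'.1 hU'.2
    by_cases hbadg : ∃ g : PG, g ≠ 1 ∧ Commute g a₁ ∧ Commute g b ∧ Commute c₁ (r * g)
    · refine ⟨c₂, hcP2, fun g' hg'1 hg'a hg'b hc2 => hc12 ?_, out2 j1 j2 j3⟩
      obtain ⟨g, hg1, hga, hgb, hc1⟩ := hbadg
      obtain ⟨hgo, hgr, hgy, hgz, hgne⟩ := hg0 g hg1 hga hgb
      obtain ⟨hgo', -, -, -, hgne'⟩ := hg0 g' hg'1 hg'a hg'b
      have hgg : g' = g := unique_perp h2 ha₁o (fun e => by rw [e, orderOf_one] at hbo; omega) hab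
        hgo' hg'a hg'b hgne' hgo hga hgb hgne
      subst hgg
      by_cases hzw : Commute z (r * g')
      · exfalso
        have hgz' : Commute g' z := by
          have e := hxz.symm.mul_right hzw
          rw [← mul_assoc, Forms.KleinPSL.mul_self_of_order_two hr, one_mul] at e
          exact e.symm
        refine no_perp h2 hzo hr hgo hxz (fun e => ?_) hgz' hgz (fun hrg => ?_) co1 cc1.symm cn1 hc1
        · exact absurd (mul_eq_left.1 e.symm) (fun e' => by rw [e', orderOf_one] at hy; omega)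
        · exact notV hgo hgr hgy hgz (four_z hrg.symm hgz')
      · refine unique_perp h2 hzo (fun e => hgr ?_) hzw co1 cc1.symm hc1 cn1 co2 cc2.symm hc2 cn2
        rw [eq_inv_of_mul_eq_one_right e, inv_of_two hr]
    · push Not at hbadg
      exact ⟨c₁, hcP1, fun g h1 h2' h3 h4 => hbadg g h1 h2' h3 h4, out2 i1 i2 i3⟩
  obtain ⟨hco, hcz, hcc, C, hC, hzC, hCc⟩ := hPdata _ _ hc
  refine ⟨A, B, C, hA, hB, hC, r, hxA, y, hyB, by rw [inv_of_two hr]; exact hzC, fun g hgA hgB hgC => ?_⟩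
  rw [inv_of_two hr] at hgC
  by_cases hg1 : g = 1
  · subst hg1
    rw [mul_one] at hgC
    exact notV hco hcout.1 hcout.2.1 hcout.2.2 (four_z (hCc r hgC).symm hcc.symm)
  · exact hgood g hg1 (hAa g hgA) (hBb g hgB) (hCc _ hgC).symm

include h2 in
/-- There are two involutions perpendicular to `x`, not in a common four-group with it. -/
theorem exists_two_perp (h7 : 7 ≤ Fintype.card F) {x : PG} (hx : orderOf x = 2) :
    ∃ y y' : PG, orderOf y = 2 ∧ orderOf y' = 2 ∧ y ≠ x ∧ y' ≠ x ∧ Commute x y ∧ Commute x y' ∧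
      ¬ Commute y y' := by
  classical
  haveI : Fintype PG := Fintype.ofFinite _
  obtain ⟨h4, h8⟩ := card_circ h2 h7
  have hP := card_perp h2 hx
  set perp := Finset.univ.filter fun b : PG => orderOf b = 2 ∧ b ≠ x ∧ Commute x b with hperp
  obtain ⟨y, hy⟩ : ∃ y, y ∈ perp := Finset.card_pos.1 (by omega)
  obtain ⟨y', hy'⟩ : ∃ y', y' ∈ perp \ ({y, x * y} : Finset PG) := by
    refine Finset.card_pos.1 ?_
    have := Finset.card_le_card_sdiff_add_card (s := perp) (t := ({y, x * y} : Finset PG))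
    have : ({y, x * y} : Finset PG).card ≤ 2 := Finset.card_le_two
    omega
  simp only [hperp, Finset.mem_sdiff, Finset.mem_filter, Finset.mem_univ, true_and, Finset.mem_insert,
    Finset.mem_singleton, not_or] at hy hy'
  refine ⟨y, y', hy.1, hy'.1.1, hy.2.1, hy'.1.2.1, hy.2.2, hy'.1.2.2, fun hc => ?_⟩
  rcases mem_four h2 hx hy.1 (Ne.symm hy.2.1) hy.2.2 hy'.1.2.2.symm hc.symm with e | e | e | e
  · have := hy'.1.1; rw [e, orderOf_one] at this; omega
  · exact hy'.1.2.1 e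
  · exact hy'.2.1 e
  · exact hy'.2.2 e

include h2 in
/-- A subgroup of even order meeting its conjugates trivially, in which any two involutions
commuting with a third one commute. -/
theorem bad_of_ti (h7 : 7 ≤ Fintype.card F) {H : Subgroup PG} {i : PG} (hi : orderOf i = 2) (hiH : i ∈ H)
    (hti : ∀ A, IsConjOf H A → ∀ B, IsConjOf H B → ∀ g ∈ A, g ∈ B → g ≠ 1 → A = B)
    (hcen : ∀ j ∈ H, ∀ k ∈ H, orderOf j = 2 → orderOf k = 2 → j ≠ i → k ≠ i →
      Commute i j → Commute i k → Commute j k) : Bad H := by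
  obtain ⟨y₁, y₂, ho1, ho2, hn1, hn2, hc1, hc2, hnc⟩ := exists_two_perp h2 h7 hi
  obtain ⟨y, hyo, hyn, hyc, hyH⟩ : ∃ y, orderOf y = 2 ∧ y ≠ i ∧ Commute i y ∧ y ∉ H := by
    by_cases h1 : y₁ ∈ H
    · exact ⟨y₂, ho2, hn2, hc2, fun h => hnc (hcen _ h1 _ h ho1 ho2 hn1 hn2 hc1 hc2)⟩
    · exact ⟨y₁, ho1, hn1, hc1, h1⟩
  have hz : orderOf (i * y) = 2 := orderOf_mul_two hi hyo (Ne.symm hyn) hyc
  obtain ⟨g, hg⟩ := isConj_iff.1 (involutions_conj h2 hi hyo)
  obtain ⟨g', hg'⟩ := isConj_iff.1 (involutions_conj h2 hi hz)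
  set B := H.map (MulAut.conj g).toMonoidHom
  set C := H.map (MulAut.conj g').toMonoidHom
  have hyB : y ∈ B := ⟨i, hiH, hg⟩
  have hzC : i * y ∈ C := ⟨i, hiH, hg'⟩
  have hne : H ≠ B := fun e => hyH (e ▸ hyB)
  refine ⟨H, B, C, isConjOf_refl H, ⟨g, rfl⟩, ⟨g', rfl⟩, i, hiH, y, hyB, by rw [inv_of_two hi]; exact hzC,
    fun k hkA hkB hkC => ?_⟩
  have hk : k = 1 := by
    by_contra hk
    exact hne (hti _ (isConjOf_refl H) _ ⟨g, rfl⟩ k hkA hkB hk)
  subst hk
  rw [mul_one, inv_of_two hi] at hkC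
  have e : H = C := hti _ (isConjOf_refl H) _ ⟨g', rfl⟩ i hiH hkC
    (fun e => by rw [e, orderOf_one] at hi; omega)
  exact hyH ((H.mul_mem_cancel_left hiH).1 (e ▸ hzC))

end Cfsg.Agent.PSLBinary
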