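import Cfsg.Agent.Lib.PSLBinary.Borel
import Cfsg.Agent.Lib.Forms.DicksonAction

/-!
# The binary actions in even characteristic, and the fixed point case
-/

set_option autoImplicit false
set_option linter.unusedSectionVars false

namespace Cfsg.Agent.PSLBinary

open Matrix
open scoped MatrixGroups
open Cfsg.Agent.Suzuki.Binary (BinAct IsConjOf Bad mem_conj_iff not_binAct binAct_of_rigid)
open Cfsg.Agent.Classical.GL2 (uniSL lowSL coe_uniSL coe_lowSL)

variable {F : Type*} [Field F] [Fintype F]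

local notation "M2" => Matrix (Fin 2) (Fin 2) F
local notation "π" => Forms.KleinPSL.pi F
local notation "PG" => Matrix.ProjectiveSpecialLinearGroup (Fin 2) F

theorem neg_one_eq (h2 : (2 : F) = 0) (X : SL(2, F)) : -X = X := by
  have h : ∀ z : F, -z = z := fun z => by linear_combination (-z) * h2
  apply sl2_ext <;> simp [h]

theorem pi_injective (h2 : (2 : F) = 0) : Function.Injective (π) := fun X Y h => by
  rcases Forms.KleinPSL.pi_eq_iff.1 h with e | e
  · exact e
  · rw [e, neg_one_eq h2]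

/-- The translations as a subgroup. -/
def unip (F : Type*) [Field F] [Fintype F] : Subgroup (Matrix.ProjectiveSpecialLinearGroup (Fin 2) F) :=
  ((Forms.KleinPSL.pi F).comp (Classical.GL2.uniHom F)).range

theorem mem_unip {g : PG} : g ∈ unip F ↔ ∃ b : F, π (uniSL b) = g := Iff.rfl

theorem natCard_unip (h2 : (2 : F) = 0) : Nat.card (unip F) = Fintype.card F := by
  rw [unip, ← Nat.card_congr (MonoidHom.ofInjective (f := (π).comp (Classical.GL2.uniHom F))
    ((pi_injective h2).comp Classical.GL2.uniHom_injective)).toEquiv, Nat.card_congr Multiplicative.toAdd,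
    Nat.card_eq_fintype_card]

theorem exists_sylow_unip (h2 : (2 : F) = 0) : ∃ P : Sylow 2 PG, (P : Subgroup PG) = unip F := by
  haveI : Fact (Nat.Prime 2) := ⟨Nat.prime_two⟩
  haveI : CharP F 2 := CharTwo.of_one_ne_zero_of_two_eq_zero one_ne_zero h2
  obtain ⟨n, -, hn⟩ := FiniteField.card F 2
  have hp : IsPGroup 2 (unip F) := IsPGroup.of_card (n := n) (by rw [natCard_unip h2, hn])
  have hidx : ¬ 2 ∣ (unip F).index := by
    have h := (unip F).card_mul_index
    rw [natCard_unip h2, ← Nat.card_congr (MulEquiv.ofBijective (π)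
      ⟨pi_injective h2, Forms.KleinPSL.pi_surjective⟩).toEquiv, Classical.GL2.natCard_SL_two] at h
    rw [Nat.eq_of_mul_eq_mul_left Fintype.card_pos h]
    have hev : 2 ∣ Fintype.card F := hn ▸ dvd_pow_self 2 n.ne_zero
    have := Fintype.one_lt_card (α := F)
    intro hd
    rcases (Nat.Prime.dvd_mul Nat.prime_two).1 hd with h' | h' <;> omega
  exact ⟨hp.toSylow hidx, rfl⟩

theorem binAct_unip (h2 : (2 : F) = 0) : BinAct PG (unip F) := by
  refine binAct_of_rigid ?_ ?_
  · rintro _ ⟨b, rfl⟩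
    rw [← map_mul]
    refine (congrArg _ ?_).trans (map_one _)
    show Multiplicative.ofAdd (Multiplicative.toAdd b + Multiplicative.toAdd b) = 1
    rw [show Multiplicative.toAdd b + Multiplicative.toAdd b = (0 : F) by
      linear_combination Multiplicative.toAdd b * h2]
    rfl
  rintro g _ ⟨b, rfl⟩ _ ⟨_, ⟨c, rfl⟩, rfl⟩ hb hc hcomm
  obtain ⟨G, rfl⟩ := Forms.KleinPSL.pi_surjective g
  set b' := Multiplicative.toAdd b
  set c' := Multiplicative.toAdd c
  change π (uniSL b') * (π G * π (uniSL c') * (π G)⁻¹) = π G * π (uniSL c') * (π G)⁻¹ * π (uniSL b')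
    at hcomm
  change π (uniSL b') ≠ 1 at hb
  change π G * π (uniSL c') * (π G)⁻¹ ≠ 1 at hc
  have hb0 : b' ≠ 0 := fun e => hb (by rw [e, Classical.GL2.uniSL_zero, map_one])
  have hc0 : c' ≠ 0 := fun e => hc (by rw [e, Classical.GL2.uniSL_zero, map_one, mul_one, mul_inv_cancel])
  rw [← map_inv, ← map_mul, ← map_mul, ← map_mul, ← map_mul] at hcomm
  have e := congrArg (fun Z : SL(2, F) => (Z : M2) 0 0) (pi_injective h2 hcomm)
  simp [Matrix.SpecialLinearGroup.coe_mul, coe_uniSL, coe_inv_two, Matrix.adjugate_fin_two, Matrix.mul_apply,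
    Fin.sum_univ_two] at e
  have h10 : (G : M2) 1 0 = 0 := by
    by_contra hne
    have : c' * (G : M2) 1 0 * (G : M2) 1 0 = 0 := by
      linear_combination -(e.resolve_left hb0)
    simp [hc0, hne] at this
  obtain ⟨a, -, hGe⟩ := eq_diag_mul_uni h10
  have conj_uni : ∀ d : F, π G * π (uniSL d) * (π G)⁻¹ = π (uniSL ((a : F) ^ 2 * d)) := fun d => by
    rw [← map_inv, ← map_mul, ← map_mul, hGe, _root_.mul_inv_rev, Classical.GL2.uniSL_inv,
      show ∀ P Q R S T : SL(2, F), P * Q * R * (S * T) = P * (Q * R * S) * T from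
        fun P Q R S T => by simp [mul_assoc], Classical.GL2.uniSL_mul, Classical.GL2.uniSL_mul,
      diag_uni, mul_inv_cancel_right]
    congr 2; ring
  ext z
  constructor
  · rintro ⟨_, ⟨d, rfl⟩, rfl⟩
    exact ⟨Multiplicative.ofAdd ((a : F) ^ 2 * Multiplicative.toAdd d), (conj_uni _).symm⟩
  · rintro ⟨d, rfl⟩
    refine ⟨π (uniSL (Multiplicative.toAdd d / (a : F) ^ 2)), ⟨Multiplicative.ofAdd _, rfl⟩, ?_⟩
    refine (conj_uni _).trans ?_
    rw [mul_div_cancel₀ _ (pow_ne_zero _ a.ne_zero)]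
    rfl

theorem binAct_of_card_eq (h2 : (2 : F) = 0) {H : Subgroup PG} {P : Sylow 2 PG} (hP : H = P) :
    BinAct PG H := by
  haveI : Fact (Nat.Prime 2) := ⟨Nat.prime_two⟩
  obtain ⟨P₀, hP₀⟩ := exists_sylow_unip (F := F) h2
  obtain ⟨g, hg⟩ := MulAction.exists_smul_eq PG P₀ P
  rw [hP, ← hg, Sylow.coe_subgroup_smul, hP₀]
  exact binAct_map (MulAut.conj g) (binAct_unip h2)

theorem no_omega {a : ℕ} (ha : Odd a) (hq : Fintype.card F = 2 ^ a) (ω : F) : ω ^ 2 + ω + 1 ≠ 0 := by
  intro h
  haveI : Fact (Nat.Prime 3) := ⟨Nat.prime_three⟩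
  have h2 : (2 : F) = 0 := by
    haveI : Fact (Nat.Prime 2) := ⟨Nat.prime_two⟩
    haveI : CharP F 2 := charP_of_card_eq_prime_pow hq
    exact CharTwo.two_eq_zero
  have hw0 : ω ≠ 0 := fun e => by simp [e] at h
  have ho : orderOf (Units.mk0 ω hw0) = 3 := by
    refine orderOf_eq_prime (Units.ext ?_) fun e => ?_
    · rw [Units.val_pow_eq_pow_val, Units.val_mk0, Units.val_one]
      linear_combination (ω - 1) * h
    · have : ω = 1 := congrArg Units.val e
      rw [this] at h
      exact one_ne_zero (α := F) (by linear_combination h - h2)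
  have hd := orderOf_dvd_natCard (Units.mk0 ω hw0)
  rw [ho, Classical.Linear.natCard_units_eq, hq] at hd
  obtain ⟨k, rfl⟩ := ha
  rw [pow_succ, pow_mul] at hd
  have : (2 ^ 2) ^ k % 3 = 1 := by rw [Nat.pow_mod]; simp
  omega

theorem trace_of_order_three (h2 : (2 : F) = 0) {X : SL(2, F)} (h : orderOf (π X) = 3) :
    (X : M2).trace = 1 := by
  have h3 : X * X * X = 1 := pi_injective h2 (by
    rw [map_mul, map_mul, map_one, ← pow_two, ← pow_succ, show 2 + 1 = orderOf (π X) from h.symm, pow_orderOf_eq_one])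
  have hne : π X ≠ 1 := fun e => by rw [e, orderOf_one] at h; omega
  rw [pi_ne_one] at hne
  have e := fun i j => congrArg (fun Z : SL(2, F) => (Z : M2) i j) h3
  have e00 := e 0 0
  have e01 := e 0 1
  have e10 := e 1 0
  have e11 := e 1 1
  simp [Matrix.SpecialLinearGroup.coe_mul, Matrix.mul_apply, Fin.sum_univ_two] at e00 e01 e10 e11
  have hd := sl2_det X
  rw [trace_fin_two]
  set t := (X : M2) 0 0 + (X : M2) 1 1 with ht
  have key : ((X : M2) 0 1) * (t ^ 2 - 1) = 0 := by
    rw [ht]; linear_combination e01 + (X : M2) 0 1 * hd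
  have key' : ((X : M2) 1 0) * (t ^ 2 - 1) = 0 := by
    rw [ht]; linear_combination e10 + (X : M2) 1 0 * hd
  have key'' : ((X : M2) 0 0 - (X : M2) 1 1) * (t ^ 2 - 1) = 0 := by
    rw [ht]; linear_combination e00 - e11 + ((X : M2) 0 0 - (X : M2) 1 1) * hd
  have ht2 : t ^ 2 - 1 = 0 := by
    by_contra hn
    exact hne ⟨(mul_eq_zero.1 key).resolve_right hn, (mul_eq_zero.1 key').resolve_right hn,
      sub_eq_zero.1 ((mul_eq_zero.1 key'').resolve_right hn)⟩
  have : (t - 1) ^ 2 = 0 := by linear_combination ht2 - (t - 1) * h2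
  exact sub_eq_zero.1 (pow_eq_zero_iff two_ne_zero |>.1 this)

/-- Order three in odd degree: a binary action. -/
theorem binAct_three {a : ℕ} (ha : Odd a) (hq : Fintype.card F = 2 ^ a) {H : Subgroup PG}
    (hH : Nat.card H = 3) : BinAct PG H := by
  haveI : Fact (Nat.Prime 3) := ⟨Nat.prime_three⟩
  have h2 : (2 : F) = 0 := by
    haveI : Fact (Nat.Prime 2) := ⟨Nat.prime_two⟩
    haveI : CharP F 2 := charP_of_card_eq_prime_pow hq
    exact CharTwo.two_eq_zero
  refine binAct_of_triangle fun a b c x hx y hy hxy hx1 hy1 => ?_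
  have hord : ∀ (g z : PG), z ∈ H.map (MulAut.conj g).toMonoidHom → z ≠ 1 →
      orderOf z = 3 ∧ Subgroup.zpowers z = H.map (MulAut.conj g).toMonoidHom := by
    intro g z hz hz1
    have hc : Nat.card (H.map (MulAut.conj g).toMonoidHom) = 3 := by
      rw [Subgroup.card_map_of_injective (MulAut.conj g).injective, hH]
    have ho : orderOf z = 3 := by
      have := Subgroup.orderOf_dvd_natCard _ hz
      rw [hc] at this
      exact ((Nat.dvd_prime Nat.prime_three).1 this).resolve_left (fun e => hz1 (orderOf_eq_one_iff.1 e))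
    exact ⟨ho, Subgroup.eq_of_le_of_card_ge (Subgroup.zpowers_le.2 hz) (by rw [hc, Nat.card_zpowers, ho])⟩
  obtain ⟨hox, hzx⟩ := hord a x hx hx1
  obtain ⟨hoy, hzy⟩ := hord b y hy hy1
  by_cases hz1 : x⁻¹ * y = 1
  · rw [← hzx, ← hzy, inv_mul_eq_one.1 hz1]
  obtain ⟨hoz, -⟩ := hord c _ hxy hz1
  obtain ⟨X, rfl⟩ := Forms.KleinPSL.pi_surjective x
  obtain ⟨Y, rfl⟩ := Forms.KleinPSL.pi_surjective y
  rw [← map_inv, ← map_mul] at hoz
  have tX := trace_of_order_three h2 hox
  obtain ⟨g, hg⟩ := exists_conj_comp X tX (by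
    intro e; exact one_ne_zero (α := F) (by linear_combination e + (2 : F) * h2))
  set Y' := g⁻¹ * Y * g with hY'
  have tY : (Y' : M2).trace = 1 := by
    refine trace_of_order_three h2 ?_
    rw [hY', map_mul, map_mul, map_inv, ← hoy]
    exact MulEquiv.orderOf_eq (MulAut.conj (π g)⁻¹) _ |> fun e => by simpa using e
  have tZ : ((comp (1 : F))⁻¹ * Y' : SL(2, F)).1.trace = 1 := by
    refine trace_of_order_three h2 ?_
    have e : (comp (1 : F))⁻¹ * Y' = g⁻¹ * (X⁻¹ * Y) * g := by rw [hY', ← hg]; group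
    rw [e, map_mul, map_mul, map_inv (π) g, ← hoz]
    exact MulEquiv.orderOf_eq (MulAut.conj (π g)⁻¹) _ |> fun e => by simpa using e
  have hd := sl2_det Y'
  rw [trace_fin_two] at tY
  simp [Matrix.trace_fin_two, Matrix.SpecialLinearGroup.coe_mul, coe_comp, coe_inv_two,
    Matrix.adjugate_fin_two, Matrix.mul_apply, Matrix.vecMul, dotProduct, Fin.sum_univ_two] at tZ
  set p := (Y' : M2) 0 0 with hp
  set r := (Y' : M2) 0 1 with hr
  have h11 : (Y' : M2) 1 1 = 1 - p := by linear_combination tY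
  have h10 : (Y' : M2) 1 0 = 1 - p + r := by linear_combination tZ
  rw [h11, h10] at hd
  have hp1 : p = 1 := by
    by_contra hp1
    have hp1' : p + 1 ≠ 0 := fun e => hp1 (by linear_combination e - h2)
    refine no_omega ha hq (r / (p + 1) + 1 / (p + 1)) ?_
    field_simp
    linear_combination -hd + (r + 1 + p + r * p + p) * h2
  have hr1 : r = 1 := by
    rw [hp1] at hd
    have : (r - 1) ^ 2 = 0 := by linear_combination -hd - r * h2 + h2 - h2
    exact sub_eq_zero.1 (pow_eq_zero_iff two_ne_zero |>.1 this)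
  have eY : Y' = (comp (1 : F))⁻¹ := by
    apply sl2_ext <;>
      simp [coe_comp, coe_inv_two, Matrix.adjugate_fin_two, ← hp, ← hr, h11, h10, hp1, hr1]
    linear_combination h2
  have eYX : Y = X⁻¹ := by
    rw [show Y = g * Y' * g⁻¹ by rw [hY']; group, eY, ← hg]; group
  rw [← hzx, ← hzy, eYX, map_inv, Subgroup.zpowers_inv]

/-- A subgroup fixing a point and meeting the unipotents. -/
theorem not_binAct_of_upper {H : Subgroup PG} (hH : IsUpper H) (hne : transPar H ≠ ⊥)
    (hexc : ¬ ((2 : F) = 0 ∧ Nat.card H = Fintype.card F)) : ¬ BinAct PG H := by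
  by_cases hall : ∀ X : SL(2, F), π X ∈ H → (X : M2) 0 0 ^ 2 = 1
  · have hall' : ∀ X : SL(2, F), π X ∈ H → ∃ b, π X = π (uniSL b) := by
      intro X hX
      obtain ⟨a, hae, he⟩ := eq_diag_mul_uni (hH X hX)
      refine ⟨(X : M2) 0 1 / (X : M2) 0 0, ?_⟩
      have ha2 : (a : F) * a = 1 := by rw [hae, ← pow_two]; exact hall X hX
      conv_lhs => rw [he]
      have hd : (diag a : M2) 0 0 = (diag a : M2) 1 1 := by
        simp only [coe_diag, of_apply, cons_val', cons_val_zero, cons_val_one, cons_val_fin_one,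
          Units.val_inv_eq_inv_val]
        exact eq_inv_of_mul_eq_one_left ha2
      rw [map_mul, Forms.KleinPSL.pi_eq_one.2 (eq_one_or_neg_one (X := diag a) (by simp [coe_diag])
        (by simp [coe_diag]) hd), one_mul]
    obtain ⟨b, hb, hb0⟩ := (transPar H).bot_or_exists_ne_zero.resolve_left hne
    by_cases h2 : (2 : F) = 0
    · refine not_binAct (haveI := CharTwo.of_one_ne_zero_of_two_eq_zero one_ne_zero h2
        bad_additive hall' hne fun htop => hexc ⟨h2, ?_⟩)
      rw [← natCard_unip h2]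
      refine congrArg (fun K : Subgroup PG => Nat.card K) (le_antisymm (fun g hg => ?_) ?_)
      · obtain ⟨X, rfl⟩ := Forms.KleinPSL.pi_surjective g
        obtain ⟨b, hb⟩ := hall' X hg
        exact mem_unip.2 ⟨b, hb.symm⟩
      · rintro _ ⟨d, rfl⟩
        exact mem_transPar.1 (by rw [htop]; trivial : (Multiplicative.toAdd d) ∈ transPar H)
    · exact not_binAct (bad_unipotent_odd h2 hall' hb0 hb)
  · push Not at hall
    obtain ⟨X, hX, hX2⟩ := hall
    obtain ⟨β, a, ha2, ha⟩ := exists_diag_conj hH hX hX2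
    set H' := H.map (MulAut.conj (π (uniSL β))).toMonoidHom with hH'
    intro hb
    have hb' : BinAct PG H' := binAct_map (MulAut.conj (π (uniSL β))) hb
    have hne' : transPar H' ≠ ⊥ := fun e => hne (eq_bot_iff.2 fun x hx => by
      have : x ∈ transPar H' := ⟨_, hx, by
        show π (uniSL β) * π (uniSL x) * (π (uniSL β))⁻¹ = _
        rw [← map_inv, ← map_mul, ← map_mul, Classical.GL2.uniSL_inv, Classical.GL2.uniSL_mul,
          Classical.GL2.uniSL_mul]
        congr 2; ring⟩
      rwa [e] at this)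
    by_cases htop : transPar H' = ⊤
    · exact not_binAct_tor_full (isUpper_conj hH β) ha ha2 htop hb'
    · exact not_binAct (bad_tor_proper (isUpper_conj hH β) ha ha2 hne' htop) hb'

end Cfsg.Agent.PSLBinary
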