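import Cfsg.Agent.Lib.PSLBinary.Basic

/-!
# Involutions of `PSL₂(q)`, `q` odd
-/

set_option autoImplicit false
set_option linter.unusedSectionVars false

namespace Cfsg.Agent.PSLBinary

open Matrix
open scoped MatrixGroups

variable {F : Type*} [Field F] [Fintype F]

local notation "M2" => Matrix (Fin 2) (Fin 2) F
local notation "π" => Forms.KleinPSL.pi F
local notation "PG" => Matrix.ProjectiveSpecialLinearGroup (Fin 2) F

variable (h2 : (2 : F) ≠ 0)

theorem inv_of_two {G : Type*} [Group G] {a : G} (h : orderOf a = 2) : a⁻¹ = a :=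
  inv_eq_of_mul_eq_one_right (Forms.KleinPSL.mul_self_of_order_two h)

include h2 in
/-- An element anticommuting with something has trace zero, so its image is an involution. -/
theorem invol_of_anti {G A : SL(2, F)} (h : G * A = -(A * G)) : orderOf (π G) = 2 := by
  refine (Forms.KleinPSL.orderOf_pi_eq_two h2).2 ?_
  have e : A⁻¹ * (G * A) = -G := by rw [h, mul_neg, inv_mul_cancel_left]
  have ht : (G : M2).trace = 0 := by
    have e' := congrArg (fun Z : SL(2, F) => (Z : M2).trace) e
    simp only [Matrix.SpecialLinearGroup.coe_mul, Matrix.SpecialLinearGroup.coe_neg, Matrix.trace_neg] at e'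
    rw [Matrix.trace_mul_comm, mul_assoc, ← Matrix.SpecialLinearGroup.coe_mul A, mul_inv_cancel,
      Matrix.SpecialLinearGroup.coe_one, mul_one] at e'
    have : (2 : F) * (G : M2).trace = 0 := by linear_combination e'
    exact (mul_eq_zero.1 this).resolve_left h2
  rw [trace_fin_two] at ht
  have hd := sl2_det G
  apply sl2_ext <;> simp [Matrix.SpecialLinearGroup.coe_mul, Matrix.mul_apply, Fin.sum_univ_two]
  · linear_combination (G : M2) 0 0 * ht - hd
  · linear_combination (G : M2) 0 1 * ht
  · linear_combination (G : M2) 1 0 * ht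
  · linear_combination (G : M2) 1 1 * ht - hd

include h2 in
theorem anti {A B : SL(2, F)} (ha : orderOf (π A) = 2) (hb : orderOf (π B) = 2) (hne : π A ≠ π B)
    (hc : Commute (π A) (π B)) : B * A = -(A * B) :=
  Forms.KleinPSL.anti_of_comm h2 ((Forms.KleinPSL.orderOf_pi_eq_two h2).1 ha)
    ((Forms.KleinPSL.orderOf_pi_eq_two h2).1 hb) hne hc

include h2 in
/-- The common centraliser of two commuting involutions. -/
theorem mem_four {x a g : PG} (hx : orderOf x = 2) (ha : orderOf a = 2) (hne : x ≠ a) (hc : Commute x a)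
    (hgx : Commute g x) (hga : Commute g a) : g = 1 ∨ g = x ∨ g = a ∨ g = x * a := by
  obtain ⟨X, rfl⟩ := Forms.KleinPSL.pi_surjective x
  obtain ⟨A, rfl⟩ := Forms.KleinPSL.pi_surjective a
  obtain ⟨G, rfl⟩ := Forms.KleinPSL.pi_surjective g
  have han := anti h2 hx ha hne hc
  have key : ∀ G : SL(2, F), G * X = X * G → G * A = A * G → π G = 1 := fun G h h' => by
    by_contra hG
    exact Forms.KleinPSL.ne_neg_self h2 _ ((commute_of_commute hG h h').trans han)
  have hxx := Forms.KleinPSL.mul_self_of_order_two hx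
  have haa := Forms.KleinPSL.mul_self_of_order_two ha
  have fin : ∀ S : SL(2, F), π (G * S) = 1 → π G = (π S)⁻¹ := fun S h =>
    eq_inv_of_mul_eq_one_left (by rw [← map_mul]; exact h)
  rcases Forms.KleinPSL.comm_cases hgx with h | h <;> rcases Forms.KleinPSL.comm_cases hga with h' | h'
  · exact Or.inl (key G h h')
  · right; left
    rw [← inv_of_two hx]
    refine fin X (key _ (by rw [mul_assoc G X X, ← mul_assoc X G X, ← h, mul_assoc]) ?_)
    calc G * X * A = G * (X * A) := mul_assoc _ _ _
      _ = G * -(A * X) := by rw [han, neg_neg]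
      _ = -(G * A * X) := by rw [mul_neg, mul_assoc]
      _ = A * (G * X) := by rw [h', neg_mul, neg_neg, mul_assoc]
  · right; right; left
    rw [← inv_of_two ha]
    refine fin A (key _ ?_ (by rw [mul_assoc G A A, ← mul_assoc A G A, ← h', mul_assoc]))
    calc G * A * X = G * (A * X) := mul_assoc _ _ _
      _ = -(G * X * A) := by rw [han, mul_neg, mul_assoc]
      _ = X * (G * A) := by rw [h, neg_mul, neg_neg, mul_assoc]
  · right; right; right
    have hi : (π X * π A)⁻¹ = π X * π A := by
      rw [_root_.mul_inv_rev, inv_of_two hx, inv_of_two ha, hc.eq]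
    rw [← hi, ← map_mul]
    refine fin (X * A) (key _ ?_ ?_)
    · calc G * (X * A) * X = G * X * (A * X) := by group
        _ = X * G * (X * A) := by rw [h, han, neg_mul, mul_neg, neg_neg]
        _ = _ := by group
    · calc G * (X * A) * A = G * -(A * X) * A := by rw [han, neg_neg]
        _ = -(G * A * (X * A)) := by simp [mul_assoc]
        _ = _ := by rw [h', neg_mul, neg_neg]; group

include h2 in
/-- A non-identity element commuting with two non-commuting involutions is an involution. -/
theorem invol_of_cent {a b g : PG} (ha : orderOf a = 2) (hb : orderOf b = 2) (hab : ¬ Commute a b)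
    (hg : g ≠ 1) (hga : Commute g a) (hgb : Commute g b) : orderOf g = 2 := by
  obtain ⟨A, rfl⟩ := Forms.KleinPSL.pi_surjective a
  obtain ⟨B, rfl⟩ := Forms.KleinPSL.pi_surjective b
  obtain ⟨G, rfl⟩ := Forms.KleinPSL.pi_surjective g
  rcases Forms.KleinPSL.comm_cases hga with h | h
  · rcases Forms.KleinPSL.comm_cases hgb with h' | h'
    · exact absurd (pi_commute_of (commute_of_commute hg h h')) hab
    · exact invol_of_anti h2 h'
  · exact invol_of_anti h2 h

include h2 in
/-- At most one involution commutes with two non-commuting elements, the first an involution. -/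
theorem unique_perp {a w c c' : PG} (ha : orderOf a = 2) (hw : w ≠ 1) (haw : ¬ Commute a w)
    (hc : orderOf c = 2) (hca : Commute c a) (hcw : Commute c w) (hne : c ≠ a)
    (hc' : orderOf c' = 2) (hca' : Commute c' a) (hcw' : Commute c' w) (hne' : c' ≠ a) : c = c' := by
  obtain ⟨A, rfl⟩ := Forms.KleinPSL.pi_surjective a
  obtain ⟨W, rfl⟩ := Forms.KleinPSL.pi_surjective w
  obtain ⟨C, rfl⟩ := Forms.KleinPSL.pi_surjective c
  obtain ⟨C', rfl⟩ := Forms.KleinPSL.pi_surjective c'
  have han := anti h2 ha hc (fun e => hne e.symm) hca.symm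
  have han' := anti h2 ha hc' (fun e => hne' e.symm) hca'.symm
  have hDA : C * C' * A = A * (C * C') := by
    rw [mul_assoc, han', mul_neg, ← mul_assoc, han, neg_mul, neg_neg, mul_assoc]
  have same : C * C' * W = W * (C * C') → π C = π C' := fun h => by
    by_contra hcc
    refine haw (pi_commute_of (commute_of_commute (G := C * C') ?_ hDA h))
    rw [map_mul]
    intro e
    exact hcc ((eq_inv_of_mul_eq_one_left e).trans (inv_of_two hc'))
  have exact' : ∀ {C C' : SL(2, F)}, orderOf (π C) = 2 → Commute (π C) (π W) → Commute (π C) (π A) →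
      C * W = W * C → C' * W = -(W * C') → False := by
    intro C C' hC hCW hCA h h'
    have hW : orderOf (π W) = 2 := invol_of_anti h2 (G := W) (A := C') (by rw [h', neg_neg])
    have hcw' : π C ≠ π W := fun e => haw (by rw [← e]; exact hCA.symm)
    exact Forms.KleinPSL.ne_neg_self h2 _ (h.trans (anti h2 hC hW hcw' hCW))
  rcases Forms.KleinPSL.comm_cases hcw with h | h <;> rcases Forms.KleinPSL.comm_cases hcw' with h' | h'
  · exact same (by rw [mul_assoc, h', ← mul_assoc, h, mul_assoc])
  · exact (exact' hc hcw hca h h').elim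
  · exact (exact' hc' hcw' hca' h' h).elim
  · exact same (by rw [mul_assoc, h', mul_neg, ← mul_assoc, h, neg_mul, neg_neg, mul_assoc])

include h2 in
/-- No involution perpendicular to `z` commutes with a product of two perpendiculars of `z` that do
not commute. -/
theorem no_perp {z x g c : PG} (hz : orderOf z = 2) (hx : orderOf x = 2) (hg : orderOf g = 2)
    (hxz : Commute x z) (hxne : x ≠ z) (hgz : Commute g z) (hgne : g ≠ z) (hxg : ¬ Commute x g)
    (hc : orderOf c = 2) (hcz : Commute c z) (hcne : c ≠ z) (hcw : Commute c (x * g)) : False := by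
  obtain ⟨Z, rfl⟩ := Forms.KleinPSL.pi_surjective z
  obtain ⟨X, rfl⟩ := Forms.KleinPSL.pi_surjective x
  obtain ⟨G, rfl⟩ := Forms.KleinPSL.pi_surjective g
  obtain ⟨C, rfl⟩ := Forms.KleinPSL.pi_surjective c
  have e1 := anti h2 hz hx (fun e => hxne e.symm) hxz.symm
  have e2 := anti h2 hz hg (fun e => hgne e.symm) hgz.symm
  have e3 := anti h2 hz hc (fun e => hcne e.symm) hcz.symm
  have hW : X * G * Z = Z * (X * G) := by
    rw [mul_assoc, e2, mul_neg, ← mul_assoc, e1, neg_mul, neg_neg, mul_assoc]
  have hw1 : π (X * G) ≠ 1 := fun e => hxg (by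
    rw [map_mul] at e
    rw [eq_inv_of_mul_eq_one_right e, inv_of_two hx])
  rw [← map_mul] at hcw
  rcases Forms.KleinPSL.comm_cases hcw with h | h
  · exact Forms.KleinPSL.ne_neg_self h2 _ ((commute_of_commute hw1 h.symm hW).symm.trans e3)
  · have hw2 := invol_of_anti h2 (G := X * G) (A := C) (by rw [h, neg_neg])
    rw [map_mul] at hw2
    refine hxg ?_
    show π X * π G = π G * π X
    conv_lhs => rw [← inv_of_two hw2, _root_.mul_inv_rev, inv_of_two hx, inv_of_two hg]

include h2 in
/-- An element cycling a four-group. -/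
theorem exists_cycle {x y : PG} (hx : orderOf x = 2) (hy : orderOf y = 2) (hne : x ≠ y)
    (hc : Commute x y) : ∃ h : PG, h * x * h⁻¹ = y ∧ h * y * h⁻¹ = x * y ∧ h * (x * y) * h⁻¹ = x := by
  obtain ⟨X, rfl⟩ := Forms.KleinPSL.pi_surjective x
  obtain ⟨Y, rfl⟩ := Forms.KleinPSL.pi_surjective y
  have hX := (Forms.KleinPSL.orderOf_pi_eq_two h2).1 hx
  have hY := (Forms.KleinPSL.orderOf_pi_eq_two h2).1 hy
  have han := anti h2 hx hy hne hc
  set A : M2 := (X : M2) with hA
  set B : M2 := (Y : M2) with hB
  have eA : A * A = -1 := by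
    simpa [hA] using congrArg (fun Z : SL(2, F) => (Z : M2)) hX
  have eB : B * B = -1 := by
    simpa [hB] using congrArg (fun Z : SL(2, F) => (Z : M2)) hY
  have eBA : B * A = -(A * B) := by
    simpa [hA, hB] using congrArg (fun Z : SL(2, F) => (Z : M2)) han
  set N : M2 := 1 + A + B + A * B with hN
  have eAA : ∀ P : M2, A * (A * P) = -P := fun P => by rw [← mul_assoc, eA, neg_mul, one_mul]
  have eBB : ∀ P : M2, B * (B * P) = -P := fun P => by rw [← mul_assoc, eB, neg_mul, one_mul]
  have eBAP : ∀ P : M2, B * (A * P) = -(A * (B * P)) := fun P => by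
    rw [← mul_assoc, eBA, neg_mul, mul_assoc]
  have hN1 : N * A = B * N := by
    simp only [hN, add_mul, mul_add, one_mul, mul_one, mul_assoc, eA, eB, eBA, eAA, eBB, eBAP, mul_neg,
      neg_mul, neg_neg]
    abel
  have hN2 : N * B = A * B * N := by
    simp only [hN, add_mul, mul_add, one_mul, mul_one, mul_assoc, eA, eB, eBA, eAA, eBB, eBAP, mul_neg,
      neg_mul, neg_neg]
    abel
  have hdet : N.det = 4 := by
    have tz : ∀ P : M2, P * P = -1 → P.det = 1 → P 1 1 = -P 0 0 := fun P hP hd => by
      have e00 := congrFun (congrFun hP 0) 0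
      simp [Matrix.mul_apply, Fin.sum_univ_two] at e00
      rw [det_fin_two] at hd
      have e11 := congrFun (congrFun hP 1) 1
      simp [Matrix.mul_apply, Fin.sum_univ_two] at e11
      have ha : P 0 0 * (P 0 0 + P 1 1) = 0 := by linear_combination e00 + hd
      have hd' : P 1 1 * (P 0 0 + P 1 1) = 0 := by linear_combination e11 + hd
      by_contra hs
      have hs' : P 0 0 + P 1 1 ≠ 0 := fun e => hs (eq_neg_of_add_eq_zero_right e)
      exact hs' (by
        rw [(mul_eq_zero.1 ha).resolve_right hs', (mul_eq_zero.1 hd').resolve_right hs', add_zero])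
    have t1 := tz A eA X.2
    have t2 := tz B eB Y.2
    have d1 : A 0 0 * A 1 1 - A 0 1 * A 1 0 = 1 := sl2_det X
    have d2 : B 0 0 * B 1 1 - B 0 1 * B 1 0 = 1 := sl2_det Y
    have e00 := congrFun (congrFun eBA 0) 0
    simp [Matrix.mul_apply, Fin.sum_univ_two] at e00
    rw [hN, det_fin_two]
    simp [Matrix.mul_apply, Fin.sum_univ_two, t1, t2]
    rw [t1] at d1
    rw [t2] at d2
    linear_combination (1 + (1 : F) - (1 + B 0 0 ^ 2 + B 0 1 * B 1 0)) * d1 + (1 + (1 : F)) * d2
  have hh : ((2 : F)⁻¹ • N).det = 1 := by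
    rw [det_smul, hdet, Fintype.card_fin]
    field_simp
    try norm_num
  set Hh : SL(2, F) := ⟨(2 : F)⁻¹ • N, hh⟩
  have c1 : Hh * X = Y * Hh := Subtype.ext (by
    show ((2 : F)⁻¹ • N) * A = B * ((2 : F)⁻¹ • N)
    rw [Matrix.smul_mul, Matrix.mul_smul, hN1])
  have c2 : Hh * Y = X * Y * Hh := Subtype.ext (by
    show ((2 : F)⁻¹ • N) * B = A * B * ((2 : F)⁻¹ • N)
    rw [Matrix.smul_mul, Matrix.mul_smul, hN2])
  have k1 : π Hh * π X * (π Hh)⁻¹ = π Y := by rw [← map_mul, c1, map_mul, mul_inv_cancel_right]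
  have k2 : π Hh * π Y * (π Hh)⁻¹ = π X * π Y := by
    rw [← map_mul, c2, map_mul, map_mul, mul_inv_cancel_right]
  refine ⟨π Hh, k1, k2, ?_⟩
  calc π Hh * (π X * π Y) * (π Hh)⁻¹ = (π Hh * π X * (π Hh)⁻¹) * (π Hh * π Y * (π Hh)⁻¹) := by group
    _ = π Y * (π X * π Y) := by rw [k1, k2]
    _ = π X * (π Y * π Y) := by rw [← mul_assoc, ← hc.eq, mul_assoc]
    _ = π X := by rw [Forms.KleinPSL.mul_self_of_order_two hy, mul_one]

include h2 in
theorem natCard_centralizer_invol {x : PG} (hx : orderOf x = 2) :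
    Nat.card (Subgroup.centralizer ({x} : Set PG)) = Nat.card (Forms.KleinSL2.Circ F 1) := by
  classical
  obtain ⟨X, rfl⟩ := Forms.KleinPSL.pi_surjective x
  have hX := (Forms.KleinPSL.orderOf_pi_eq_two h2).1 hx
  set S := (Subgroup.centralizer ({π X} : Set PG)).comap π with hS
  have hmem : ∀ g : SL(2, F), g ∈ S ↔ g * X = X * g ∨ g * X = -(X * g) := fun g => by
    rw [hS, Subgroup.mem_comap, Subgroup.mem_centralizer_singleton_iff, ← map_mul, ← map_mul,
      Forms.KleinPSL.pi_eq_iff]
  have h1 : Nat.card S = 2 * Nat.card (Forms.KleinSL2.Circ F 1) := by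
    rw [Nat.card_congr (Equiv.subtypeEquivRight hmem), Nat.card_eq_fintype_card,
      Fintype.card_subtype_or_disjoint, ← Nat.card_eq_fintype_card, ← Nat.card_eq_fintype_card,
      Forms.KleinPSL.natCard_cent_of h2 hX, Forms.KleinSL2.natCard_anti_of h2 ⟨X, hX⟩, two_mul]
    intro p hp hq g hg
    exact Forms.KleinPSL.ne_neg_self h2 (X * g) ((hp g hg).symm.trans (hq g hg))
  have hker : Nat.card (π).ker = 2 := by
    have hset : ∀ g, g ∈ (π).ker ↔ g = 1 ∨ g = -1 := fun g => by
      rw [MonoidHom.mem_ker]; exact Forms.KleinPSL.pi_eq_one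
    rw [Nat.card_congr (Equiv.subtypeEquivRight hset), Nat.card_eq_fintype_card, Fintype.card_subtype]
    rw [show (Finset.univ.filter fun g : SL(2, F) => g = 1 ∨ g = -1) = {1, -1} by ext; simp]
    exact Finset.card_pair (Forms.KleinPSL.ne_neg_self h2 1)
  have h3 := S.card_mul_index
  rw [hS, Subgroup.index_comap_of_surjective _ Forms.KleinPSL.pi_surjective] at h3
  have h4 := (Subgroup.centralizer ({π X} : Set PG)).card_mul_index
  have h5 := (π).ker.card_mul_index
  rw [Subgroup.index_ker, MonoidHom.range_eq_top.2 Forms.KleinPSL.pi_surjective, Subgroup.card_top, hker,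
    ← h4, ← h3, ← hS, h1, ← mul_assoc] at h5
  have := Nat.eq_of_mul_eq_mul_right
    (Nat.pos_of_ne_zero Subgroup.index_ne_zero_of_finite) h5
  omega

include h2 in
theorem card_circ (h7 : 7 ≤ Fintype.card F) : 4 ∣ Nat.card (Forms.KleinSL2.Circ F 1) ∧
    8 ≤ Nat.card (Forms.KleinSL2.Circ F 1) := by
  have hodd : Fintype.card F % 2 = 1 := by
    refine FiniteField.odd_card_of_char_ne_two fun hc' => h2 ?_
    haveI := ringChar.of_eq hc'
    exact CharTwo.two_eq_zero
  obtain ⟨e1, e3⟩ := Forms.KleinSL2.natCard_circ_one h2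
  rcases (show Fintype.card F % 4 = 1 ∨ Fintype.card F % 4 = 3 by omega) with h | h
  · rw [e1 h]; omega
  · rw [e3 h]; omega

open scoped _root_.Classical in
include h2 in
/-- The involutions perpendicular to `x` are at least half as many as its centralising elements. -/
theorem card_perp [Fintype PG] {x : PG} (hx : orderOf x = 2) :
    Nat.card (Forms.KleinSL2.Circ F 1) ≤
      2 * (Finset.univ.filter fun a : PG => orderOf a = 2 ∧ a ≠ x ∧ Commute x a).card := by
  classical
  obtain ⟨X, rfl⟩ := Forms.KleinPSL.pi_surjective x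
  have hX := (Forms.KleinPSL.orderOf_pi_eq_two h2).1 hx
  rw [← Forms.KleinSL2.natCard_anti_of h2 ⟨X, hX⟩, Nat.card_eq_fintype_card, Fintype.card_subtype]
  refine (Finset.card_le_mul_card_image _ 2 fun b hb => ?_).trans
    (Nat.mul_le_mul_left 2 (Finset.card_le_card (s := (Finset.univ.filter fun g : SL(2, F) =>
      g * X = -(X * g)).image π) fun b hb => ?_))
  · obtain ⟨G, -, rfl⟩ := Finset.mem_image.1 hb
    refine (Finset.card_le_card (t := {G, -G}) fun G' hG' => ?_).trans Finset.card_le_two
    simp only [Finset.mem_filter] at hG'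
    simp only [Finset.mem_insert, Finset.mem_singleton]
    exact Forms.KleinPSL.pi_eq_iff.1 hG'.2
  · obtain ⟨G, hG, rfl⟩ := Finset.mem_image.1 hb
    simp only [Finset.mem_filter, Finset.mem_univ, true_and] at hG ⊢
    refine ⟨invol_of_anti h2 hG, fun e => ?_, ?_⟩
    · rcases Forms.KleinPSL.pi_eq_iff.1 e with rfl | rfl
      · exact Forms.KleinPSL.ne_neg_self h2 _ hG
      · exact Forms.KleinPSL.ne_neg_self h2 (X * X) (by simpa [eq_comm] using hG)
    · show π X * π G = π G * π X
      rw [← map_mul, ← map_mul, hG, Forms.KleinPSL.pi_neg]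

end Cfsg.Agent.PSLBinary
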