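import Cfsg.Agent.Lib.PSLBinary.Basic
import Cfsg.Agent.Lib.PSLBinary.Criterion

/-!
# Coset actions of `PSL₂` on cyclic subgroups
-/

set_option autoImplicit false
set_option linter.unusedSectionVars false

namespace Cfsg.Agent.PSLBinary

open Matrix
open scoped MatrixGroups
open Cfsg.Agent.Suzuki.Binary (BinAct IsConjOf Bad)

variable {F : Type*} [Field F] [Fintype F]

local notation "M2" => Matrix (Fin 2) (Fin 2) F
local notation "π" => Forms.KleinPSL.pi F
local notation "PG" => Matrix.ProjectiveSpecialLinearGroup (Fin 2) F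

theorem exists_eq_zpow {X : SL(2, F)} {g : PG} (h : g ∈ Subgroup.zpowers (π X)) :
    ∃ i : ℤ, π (X ^ i) = g := by
  obtain ⟨i, hi⟩ := Subgroup.mem_zpowers_iff.1 h
  exact ⟨i, by rw [map_zpow, hi]⟩

theorem commute_zpow_of_pi_eq {X Y : SL(2, F)} {i j : ℤ} (h : π (X ^ i) = π (Y ^ j)) :
    X ^ i * Y = Y * X ^ i := by
  rcases Forms.KleinPSL.pi_eq_iff.1 h with e | e <;> rw [e]
  · exact ((Commute.refl Y).zpow_left j).eq
  · rw [neg_mul, mul_neg, ((Commute.refl Y).zpow_left j).eq]

theorem isConjOf_zpowers {c d : PG} (h : IsConj c d) :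
    IsConjOf (Subgroup.zpowers c) (Subgroup.zpowers d) := by
  obtain ⟨g, hg⟩ := isConj_iff.1 h
  refine ⟨g, ?_⟩
  rw [MonoidHom.map_zpowers]
  exact congrArg _ hg

/-- Three suitable generators give a witness. -/
theorem bad_zpowers_of_pair {c : PG} {X Y : SL(2, F)} (hne : X * Y ≠ Y * X) (hX : IsConj c (π X))
    (hY : IsConj c (π Y)) (hZ : IsConj c (π (X⁻¹ * Y))) : Bad (Subgroup.zpowers c) := by
  refine ⟨_, _, _, isConjOf_zpowers hX, isConjOf_zpowers hY, isConjOf_zpowers hZ, π X,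
    Subgroup.mem_zpowers _, π Y, Subgroup.mem_zpowers _,
    by rw [← map_inv, ← map_mul]; exact Subgroup.mem_zpowers _, fun g hgA hgB hgC => ?_⟩
  obtain ⟨i, rfl⟩ := exists_eq_zpow hgA
  obtain ⟨j, hj⟩ := exists_eq_zpow hgB
  by_cases h1 : π (X ^ i) = 1
  · rw [h1, mul_one] at hgC
    obtain ⟨k, hk⟩ := exists_eq_zpow hgC
    rw [← map_inv] at hk
    have hXZ : X⁻¹ * (X⁻¹ * Y) = X⁻¹ * Y * X⁻¹ := by
      have e := commute_zpow_of_pi_eq (X := X) (i := -1) (Y := X⁻¹ * Y) (j := k)
        (by rw [_root_.zpow_neg_one]; exact hk.symm)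
      rwa [_root_.zpow_neg_one] at e
    refine hne ?_
    calc X * Y = X * X * (X⁻¹ * Y) := by group
      _ = X * X * (X⁻¹ * Y) * X⁻¹ * X := by group
      _ = X * X * (X⁻¹ * (X⁻¹ * Y)) * X := by rw [hXZ]; group
      _ = _ := by group
  · exact hne (commute_of_commute h1 ((Commute.refl X).zpow_left i).eq (commute_zpow_of_pi_eq hj.symm))

theorem isConj_pi_of_trace {C X : SL(2, F)} (h4 : (C : M2).trace ^ 2 ≠ 4)
    (h : (X : M2).trace = (C : M2).trace ∨ (X : M2).trace = -(C : M2).trace) : IsConj (π C) (π X) := by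
  rcases h with e | e
  · exact (π).map_isConj (isConj_of_trace e.symm h4)
  · rw [← Forms.KleinPSL.pi_neg X]
    refine (π).map_isConj (isConj_of_trace ?_ h4)
    rw [Matrix.SpecialLinearGroup.coe_neg, Matrix.trace_neg, e, neg_neg]

/-- A cyclic group generated by a semisimple element gives an action which is not binary, apart
from order three when `-1` is not a cube root of unity. -/
theorem bad_cyclic (C : SL(2, F)) (h4 : (C : M2).trace ^ 2 ≠ 4)
    (hex : (2 : F) = 0 → (C : M2).trace = 1 → ∃ ω : F, ω ^ 2 + ω + 1 = 0) :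
    Bad (Subgroup.zpowers (π C)) := by
  set τ := (C : M2).trace with hτ
  by_cases h1 : 3 * τ ^ 2 - τ ^ 3 - 4 ≠ 0
  · obtain ⟨X, Y, hX, hY, hZ, hne⟩ := exists_pair (τ := τ) (τ' := τ) (σ := τ) h4
      (fun e => h1 (by linear_combination e))
    exact bad_zpowers_of_pair hne (isConj_pi_of_trace h4 (Or.inl hX)) (isConj_pi_of_trace h4 (Or.inl hY))
      (isConj_pi_of_trace h4 (Or.inl hZ))
  push Not at h1
  by_cases h2 : 3 * τ ^ 2 + τ ^ 3 - 4 ≠ 0
  · obtain ⟨X, Y, hX, hY, hZ, hne⟩ := exists_pair (τ := τ) (τ' := τ) (σ := -τ) h4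
      (fun e => h2 (by linear_combination e))
    exact bad_zpowers_of_pair hne (isConj_pi_of_trace h4 (Or.inl hX)) (isConj_pi_of_trace h4 (Or.inl hY))
      (isConj_pi_of_trace h4 (Or.inr hZ))
  push Not at h2
  have ha : τ = -1 := by
    have : (τ - 2) ^ 2 * (τ + 1) = 0 := by linear_combination -h1
    rcases mul_eq_zero.1 this with e | e
    · exact absurd (by rw [sub_eq_zero.1 (pow_eq_zero_iff two_ne_zero |>.1 e)]; norm_num) h4
    · exact eq_neg_of_add_eq_zero_left e
  have hb : τ = 1 := by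
    have : (τ + 2) ^ 2 * (τ - 1) = 0 := by linear_combination h2
    rcases mul_eq_zero.1 this with e | e
    · exact absurd (by rw [eq_neg_of_add_eq_zero_left (pow_eq_zero_iff two_ne_zero |>.1 e)]; norm_num) h4
    · exact sub_eq_zero.1 e
  have h20 : (2 : F) = 0 := by linear_combination ha - hb
  obtain ⟨ω, hω⟩ := hex h20 hb
  let X : SL(2, F) := mkSL ω 0 0 (ω ^ 2) (by linear_combination (ω - 1) * hω)
  let Y : SL(2, F) := mkSL (ω ^ 2) 1 0 ω (by linear_combination (ω - 1) * hω)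
  have hXY : X * Y ≠ Y * X := fun e => by
    have e01 := congrArg (fun Z : SL(2, F) => (Z : M2) 0 1) e
    simp [X, Y, Matrix.SpecialLinearGroup.coe_mul, Matrix.mul_apply, Fin.sum_univ_two] at e01
    have : (1 : F) = 0 := by linear_combination hω + e01 - ω * h20
    exact one_ne_zero this
  refine bad_zpowers_of_pair hXY (isConj_pi_of_trace h4 (Or.inl ?_)) (isConj_pi_of_trace h4 (Or.inl ?_))
    (isConj_pi_of_trace h4 (Or.inl ?_))
  · rw [← hτ, hb]
    simp [X, trace_fin_two]
    linear_combination hω - h20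
  · rw [← hτ, hb]
    simp [Y, trace_fin_two]
    linear_combination hω - h20
  · rw [← hτ, hb]
    simp [X, Y, coe_inv_two, trace_fin_two, Matrix.SpecialLinearGroup.coe_mul, Matrix.mul_apply,
      Fin.sum_univ_two]
    linear_combination (ω ^ 2 - ω + 1) * hω - h20

end Cfsg.Agent.PSLBinary
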