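import Cfsg.Agent.Lib.PSLBinary.Finite
import Cfsg.Agent.Lib.PSLBinary.Dihedral
import Cfsg.Agent.Lib.PSLBinary.Cyclic
import Cfsg.Agent.Lib.Forms.DicksonList
import Cfsg.Agent.Lib.Forms.DicksonDihedral
import Cfsg.Agent.Lib.Forms.DicksonCor

/-!
# Coset actions on the exceptional subgroups, `q` odd
-/

set_option autoImplicit false
set_option linter.unusedSectionVars false

namespace Cfsg.Agent.PSLBinary

open Matrix
open scoped MatrixGroups
open Cfsg.Agent.Suzuki.Binary (BinAct IsConjOf Bad not_binAct mem_conj_iff)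

variable {F : Type*} [Field F] [Fintype F]

local notation "M2" => Matrix (Fin 2) (Fin 2) F
local notation "π" => Forms.KleinPSL.pi F
local notation "PG" => Matrix.ProjectiveSpecialLinearGroup (Fin 2) F

theorem cayley (X : SL(2, F)) (i j : Fin 2) :
    ((X * X : SL(2, F)) : M2) i j = (X : M2).trace * (X : M2) i j - (1 : M2) i j := by
  have hd := sl2_det X
  fin_cases i <;> fin_cases j <;>
    simp [Matrix.SpecialLinearGroup.coe_mul, Matrix.mul_apply, Fin.sum_univ_two, trace_fin_two]
  · linear_combination -hd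
  · ring
  · ring
  · linear_combination -hd

theorem pi_sq_of_trace_zero {W : SL(2, F)} (h : (W : M2).trace = 0) : π W * π W = 1 := by
  rw [← map_mul, Forms.KleinPSL.pi_eq_one]
  right
  apply sl2_ext <;> rw [cayley, h] <;> simp

theorem sq_one_of_inverting (h2 : (2 : F) ≠ 0) {c w : PG} (hc : c * c ≠ 1) (h : w * c = c⁻¹ * w) : w * w = 1 := by
  obtain ⟨C, rfl⟩ := Forms.KleinPSL.pi_surjective c
  obtain ⟨W, rfl⟩ := Forms.KleinPSL.pi_surjective w
  rw [← map_inv, ← map_mul, ← map_mul] at h
  rcases Forms.KleinPSL.pi_eq_iff.1 h with e | e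
  · refine pi_sq_of_trace_zero (by_contra fun ht => hc ?_)
    have e2 : W * C⁻¹ = C * W := by
      calc W * C⁻¹ = C * (C⁻¹ * W) * C⁻¹ := by group
        _ = C * (W * C) * C⁻¹ := by rw [e]
        _ = C * W := by group
    have e3 : W * W * C = C * (W * W) := by
      rw [mul_assoc, e, ← mul_assoc, e2, mul_assoc]
    have e4 : W * C = C * W := by
      refine Subtype.ext (Matrix.ext fun i j => mul_left_cancel₀ ht ?_)
      have := congrArg (fun Z : SL(2, F) => (Z : M2) i j) e3
      simp only [Matrix.SpecialLinearGroup.coe_mul, Matrix.mul_apply, Fin.sum_univ_two] at this ⊢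
      have c0 := cayley W i 0
      have c1 := cayley W i 1
      have d0 := cayley W 0 j
      have d1 := cayley W 1 j
      simp only [Matrix.SpecialLinearGroup.coe_mul, Matrix.mul_apply, Fin.sum_univ_two] at c0 c1 d0 d1
      rw [c0, c1, d0, d1] at this
      fin_cases i <;> fin_cases j <;> simp [Matrix.one_apply] at this ⊢ <;>
        exact Or.inl (mul_left_cancel₀ ht (by linear_combination this))
    rw [← map_mul]
    have : C⁻¹ = C := mul_right_cancel (e.symm.trans e4)
    conv_lhs => arg 2; arg 1; rw [← this]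
    rw [inv_mul_cancel, map_one]
  · have e' : W * C * W⁻¹ = -C⁻¹ := by rw [e, neg_mul, mul_inv_cancel_right]
    have ht := congrArg (fun Z : SL(2, F) => (Z : M2).trace) e'
    simp only [Matrix.SpecialLinearGroup.coe_mul, Matrix.SpecialLinearGroup.coe_neg, Matrix.trace_neg] at ht
    rw [Matrix.trace_mul_comm, ← mul_assoc, ← Matrix.SpecialLinearGroup.coe_mul, inv_mul_cancel,
      Matrix.SpecialLinearGroup.coe_one, one_mul, coe_inv_two] at ht
    refine absurd (pi_sq_of_trace_zero (W := C) (mul_left_cancel₀ h2 ?_)) hc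
    rw [trace_fin_two] at ht ⊢
    simp [Matrix.adjugate_fin_two] at ht
    linear_combination ht

theorem trace_sq_three {X : SL(2, F)} (h : orderOf (π X) = 3) : (X : M2).trace ^ 2 = 1 := by
  have hne : π X ≠ 1 := fun e => by rw [e, orderOf_one] at h; omega
  have h3 : π (X * X * X) = 1 := by
    rw [map_mul, map_mul, ← pow_two, ← pow_succ, show 2 + 1 = orderOf (π X) from h.symm, pow_orderOf_eq_one]
  rw [pi_ne_one] at hne
  have hd := sl2_det X
  set t := (X : M2) 0 0 + (X : M2) 1 1 with ht
  have key : (X : M2) 0 1 * (t ^ 2 - 1) = 0 ∧ (X : M2) 1 0 * (t ^ 2 - 1) = 0 ∧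
      ((X : M2) 0 0 - (X : M2) 1 1) * (t ^ 2 - 1) = 0 := by
    rcases Forms.KleinPSL.pi_eq_one.1 h3 with e | e
    all_goals
      have e' := fun i j => congrArg (fun Z : SL(2, F) => (Z : M2) i j) e
      have e00 := e' 0 0
      have e01 := e' 0 1
      have e10 := e' 1 0
      have e11 := e' 1 1
      simp [Matrix.SpecialLinearGroup.coe_mul, Matrix.mul_apply, Fin.sum_univ_two] at e00 e01 e10 e11
      rw [ht]
      exact ⟨by linear_combination e01 + (X : M2) 0 1 * hd, by linear_combination e10 + (X : M2) 1 0 * hd,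
        by linear_combination e00 - e11 + ((X : M2) 0 0 - (X : M2) 1 1) * hd⟩
  rw [trace_fin_two, ← ht]
  by_contra hn
  have hn' : t ^ 2 - 1 ≠ 0 := sub_ne_zero.2 hn
  exact hne ⟨(mul_eq_zero.1 key.1).resolve_right hn', (mul_eq_zero.1 key.2.1).resolve_right hn',
    sub_eq_zero.1 ((mul_eq_zero.1 key.2.2).resolve_right hn')⟩

/-- In the centraliser of an element of order three there is an element whose square is not a power
of it, or `q = 7`. -/
theorem exists_cent_three (h2 : (2 : F) ≠ 0) (h7 : 7 ≤ Fintype.card F) (h24 : 24 ∣ Nat.card PG) {c : PG}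
    (hc : orderOf c = 3) :
    (∃ g, Commute g c ∧ ∀ k : ℕ, g * g ≠ c ^ k) ∨ Fintype.card F = 7 := by
  obtain ⟨C, rfl⟩ := Forms.KleinPSL.pi_surjective c
  have hne : π C ≠ 1 := fun e => by rw [e, orderOf_one] at hc; omega
  have ht := trace_sq_three hc
  by_cases h3 : (3 : F) = 0
  · left
    classical
    obtain ⟨X, hX, hXt⟩ : ∃ X : SL(2, F), π X = π C ∧ (X : M2).trace = 2 := by
      rcases sq_eq_one_iff.1 ht with e | e
      · exact ⟨-C, Forms.KleinPSL.pi_neg C, by
          rw [Matrix.SpecialLinearGroup.coe_neg, Matrix.trace_neg, e]; linear_combination -h3⟩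
      · exact ⟨C, rfl, by rw [e]; linear_combination -h3⟩
    obtain ⟨w, hw⟩ : ∃ w : F, w ∉ ({0, 1, -1} : Finset F) := by
      by_contra! hall
      have h := Finset.card_le_card (s := Finset.univ) (fun w _ => hall w)
      have : ({0, 1, -1} : Finset F).card ≤ 3 := Finset.card_le_three
      rw [Finset.card_univ] at h
      omega
    simp only [Finset.mem_insert, Finset.mem_singleton, not_or] at hw
    rw [← hX] at hne ⊢
    rw [trace_fin_two] at hXt
    have hd := sl2_det X
    let W : SL(2, F) := mkSL (1 - w + w * (X : M2) 0 0) (w * (X : M2) 0 1) (w * (X : M2) 1 0)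
      (1 - w + w * (X : M2) 1 1) (by linear_combination w ^ 2 * hd + (w - w ^ 2) * hXt)
    refine ⟨π W, pi_commute_of ?_, fun k e => ?_⟩
    · apply sl2_ext <;> simp [W, Matrix.SpecialLinearGroup.coe_mul, Matrix.mul_apply, Fin.sum_univ_two] <;> ring
    rw [← hX] at hc
    rw [← pow_mod_orderOf, hc] at e
    obtain ⟨α, β, hk, hβ⟩ : ∃ α β : F, (∀ i j, ((X ^ (k % 3) : SL(2, F)) : M2) i j =
        α * (1 : M2) i j + β * (X : M2) i j) ∧ (β = 0 ∨ β = 1 ∨ β = 2) := by
      have : k % 3 = 0 ∨ k % 3 = 1 ∨ k % 3 = 2 := by omega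
      rcases this with h | h | h <;> rw [h]
      · exact ⟨1, 0, fun i j => by simp, Or.inl rfl⟩
      · exact ⟨0, 1, fun i j => by simp, Or.inr (Or.inl rfl)⟩
      · exact ⟨-1, 2, fun i j => by rw [pow_two, cayley, trace_fin_two, hXt]; ring, Or.inr (Or.inr rfl)⟩
    have hWt : (W : M2).trace = 2 := by
      rw [trace_fin_two]; simp [W]; linear_combination w * hXt
    have hWW : ∀ i j, ((W * W : SL(2, F)) : M2) i j = (1 - 2 * w) * (1 : M2) i j + 2 * w * (X : M2) i j := by
      intro i j
      rw [cayley, hWt]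
      fin_cases i <;> fin_cases j <;> simp [W] <;> ring
    obtain ⟨ε, hε, he⟩ : ∃ ε : F, (ε = 1 ∨ ε = -1) ∧
        ∀ i j, ((W * W : SL(2, F)) : M2) i j = ε * ((X ^ (k % 3) : SL(2, F)) : M2) i j := by
      rw [← map_mul, ← map_pow, Forms.KleinPSL.pi_eq_iff] at e
      rcases e with e | e
      · exact ⟨1, Or.inl rfl, fun i j => by rw [one_mul, e]⟩
      · exact ⟨-1, Or.inr rfl, fun i j => by rw [e, Matrix.SpecialLinearGroup.coe_neg]; simp⟩
    have hβ0 : 2 * w - ε * β = 0 := by
      by_contra hb
      have q : ∀ i j, (1 - 2 * w - ε * α) * (1 : M2) i j + (2 * w - ε * β) * (X : M2) i j = 0 := fun i j => by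
        have := he i j
        rw [hWW, hk] at this
        linear_combination this
      have q00 := q 0 0
      have q01 := q 0 1
      have q10 := q 1 0
      have q11 := q 1 1
      simp at q00 q01 q10 q11
      exact pi_ne_one.1 hne ⟨q01.resolve_left hb, q10.resolve_left hb,
        mul_left_cancel₀ hb (by linear_combination q00 - q11)⟩
    rcases hε with rfl | rfl <;> rcases hβ with rfl | rfl | rfl
    · exact hw.1 ((mul_eq_zero.1 (by linear_combination hβ0 : (2 : F) * w = 0)).resolve_left h2)
    · exact hw.2.2 (by linear_combination -hβ0 + w * h3)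
    · exact hw.2.1 (mul_left_cancel₀ h2 (by linear_combination hβ0))
    · exact hw.1 ((mul_eq_zero.1 (by linear_combination hβ0 : (2 : F) * w = 0)).resolve_left h2)
    · exact hw.2.1 (by linear_combination -hβ0 + w * h3)
    · exact hw.2.2 (mul_left_cancel₀ h2 (by linear_combination hβ0))
  · haveI : Fact (Nat.Prime (ringChar F)) := ⟨CharP.char_is_prime F (ringChar F)⟩
    set p := ringChar F with hp
    have hdvd := Forms.DicksonList.order_dvd p (π C) (by
      rw [hc]
      intro hd
      rcases (Nat.dvd_prime Nat.prime_three).1 hd with e | e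
      · exact (CharP.char_is_prime F p).ne_one e
      · exact h3 (by
          have := CharP.cast_eq_zero F p
          rw [e] at this
          exact_mod_cast this))
    have hodd : Fintype.card F % 2 = 1 := FiniteField.odd_card_of_char_ne_two fun e => h2 (by
      have := CharP.cast_eq_zero F (ringChar F)
      rw [e] at this
      exact_mod_cast this)
    have hgcd : Nat.gcd 2 (Fintype.card F - 1) = 2 :=
      Nat.gcd_eq_left (Nat.dvd_of_mod_eq_zero (by omega))
    rw [hgcd, hc] at hdvd
    have key : ∀ (g : PG) (n : ℕ), orderOf g = n → 3 ∣ n → 6 < n →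
        ∃ g', Commute g' (π C) ∧ ∀ k : ℕ, g' * g' ≠ π C ^ k := by
      intro g n hg hn h6
      obtain ⟨G, rfl⟩ := Forms.KleinPSL.pi_surjective g
      have ho : orderOf (π (G ^ (n / 3))) = 3 := by
        rw [map_pow, orderOf_pow_of_dvd (Nat.div_pos (by omega) (by norm_num)).ne'
          (by rw [hg]; exact Nat.div_dvd_of_dvd hn), hg, Nat.div_div_self hn (by omega)]
      have ht' := trace_sq_three ho
      obtain ⟨v, hv⟩ := isConj_iff.1 (isConj_pi_of_trace (X := C) (C := G ^ (n / 3))
        (by rw [ht']; intro e; exact h3 (by linear_combination -e))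
        (sq_eq_sq_iff_eq_or_eq_neg.1 (by rw [ht, ht'])))
      refine ⟨v * π G * v⁻¹, ?_, fun k e => ?_⟩
      · rw [← hv]
        exact (by rw [map_pow]; exact (Commute.refl _).pow_right _ : Commute (π G) (π (G ^ (n / 3)))).map
          (MulAut.conj v).toMonoidHom
      · have h6' : (v * π G * v⁻¹) ^ 6 = 1 := by
          rw [show 6 = 2 * 3 from rfl, pow_mul, pow_two, e, ← pow_mul, mul_comm, pow_mul, ← hc,
            pow_orderOf_eq_one, one_pow]
        have := orderOf_dvd_of_pow_eq_one h6'
        rw [show v * π G * v⁻¹ = MulAut.conj v (π G) from rfl, MulEquiv.orderOf_eq, hg] at this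
        exact absurd (Nat.le_of_dvd (by norm_num) this) (by omega)
    have hG := Forms.DicksonCor.gcd_mul_natCard (F := F)
    rw [hgcd] at hG
    obtain ⟨-, -, -, g₁, -, -, -, hg₁, -⟩ := Forms.DicksonDihedral.exists_plus (F := F)
    obtain ⟨-, -, -, g₂, -, -, -, hg₂, -⟩ := Forms.DicksonDihedral.exists_minus (F := F)
    rw [hgcd] at hg₁ hg₂
    by_cases hbig : 15 ≤ Fintype.card F
    · left
      rcases hdvd with hd | hd
      · exact key g₁ _ hg₁ hd (by omega)
      · exact key g₂ _ hg₂ hd (by omega)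
    · right
      push Not at hbig
      obtain ⟨m, hm⟩ := h24
      rw [hm] at hG
      interval_cases hq : Fintype.card F <;> omega

theorem orderOf_two {G : Type*} [Group G] {a : G} (h : a * a = 1) (h1 : a ≠ 1) : orderOf a = 2 :=
  orderOf_eq_prime (by rw [pow_two, h]) h1

section Abstract

variable {T : Type*} [Group T]

theorem binAct_pullback {G : Type*} [Group G] {f : T →* G} (hf : Function.Injective f)
    (hb : BinAct G f.range) (g : G) :
    BinAct T ((f.range.map (MulAut.conj g).toMonoidHom).comap f) := by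
  have h := binAct_map (MonoidHom.ofInjective hf).symm (binAct_suborbit hb g)
  refine (?_ : _ = (f.range.map (MulAut.conj g).toMonoidHom).comap f) ▸ h
  ext t
  constructor
  · rintro ⟨s, hs, rfl⟩
    show f ((MonoidHom.ofInjective hf).symm s) ∈ f.range.map (MulAut.conj g).toMonoidHom
    rw [show f ((MonoidHom.ofInjective hf).symm s) = (s : G) from
      congrArg Subtype.val ((MonoidHom.ofInjective hf).apply_symm_apply s)]
    exact hs
  · intro ht
    exact ⟨MonoidHom.ofInjective hf t, ht, (MonoidHom.ofInjective hf).symm_apply_apply t⟩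

include F in
/-- The groups like `A₄` and `A₅`. -/
theorem not_binAct_altLike [Finite T] (h2 : (2 : F) ≠ 0) (h7 : 7 ≤ Fintype.card F) (hT : AltLike T)
    (f : T →* PG) (hf : Function.Injective f) : ¬ BinAct PG f.range := by
  intro hb
  have hall : ∀ g : PG, let K := (f.range.map (MulAut.conj g).toMonoidHom).comap f
      K = ⊥ ∨ K = ⊤ := by
    intro g
    intro K
    by_contra! hK
    by_cases h4 : Nat.card K = 4
    swap
    · exact hT.small K hK.1 hK.2 h4 (binAct_pullback hf hb g)
    classical
    have hsq : ∀ u ∈ K, u * u = 1 := fun u hu => hT.sq u (by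
      rw [← h4]; exact congrArg Subtype.val (pow_card_eq_one' (x := (⟨u, hu⟩ : K))))
    obtain ⟨⟨a, haK⟩, ha1⟩ := Subgroup.ne_bot_iff_exists_ne_one.1 hK.1
    replace ha1 : a ≠ 1 := fun e => ha1 (Subtype.ext e)
    obtain ⟨b, hbK, hb1, hba⟩ : ∃ b ∈ K, b ≠ 1 ∧ b ≠ a := by
      by_contra! h
      have hsub : (K : Set T) ⊆ {1, a} := fun x hx => (em (x = 1)).imp id (fun hne => h x hx hne)
      have := Set.ncard_le_ncard hsub
      rw [← Nat.card_coe_set_eq, SetLike.coe_sort_coe, h4] at this
      have := Set.ncard_insert_le (1 : T) {a}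
      rw [Set.ncard_singleton] at this
      omega
    have hinv : ∀ u ∈ K, u⁻¹ = u := fun u hu => inv_eq_of_mul_eq_one_right (hsq u hu)
    have hab : a * b = b * a := by
      rw [← hinv _ (K.mul_mem haK hbK), _root_.mul_inv_rev, hinv a haK, hinv b hbK]
    obtain ⟨t, ht3, hta, htb⟩ := hT.cyc a (hsq a haK) ha1 b (hsq b hbK) hb1 hba.symm hab
    have hKf : ∀ u ∈ K, ∃ u', f u = g * f u' * g⁻¹ := by
      rintro u hu
      obtain ⟨_, ⟨u', rfl⟩, e⟩ := hu
      exact ⟨u', e.symm⟩
    obtain ⟨a', ha'⟩ := hKf a haK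
    obtain ⟨b', hb'⟩ := hKf b hbK
    have inj : ∀ u v : T, g * f u * g⁻¹ = g * f v * g⁻¹ → u = v := fun u v e => hf (by simpa using e)
    have h1 : ∀ u v : T, f u = g * f v * g⁻¹ → (u = 1 ↔ v = 1) := fun u v e => by
      constructor <;> rintro rfl
      · exact inj _ _ (by rw [← e]; simp)
      · exact hf (by rw [e]; simp)
    have hsq' : ∀ u v : T, f u = g * f v * g⁻¹ → u * u = 1 → v * v = 1 := fun u v e h => inj _ _ (by
      rw [map_mul, map_one, mul_one, mul_inv_cancel, show g * (f v * f v) * g⁻¹ =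
        g * f v * g⁻¹ * (g * f v * g⁻¹) by group, ← e, ← map_mul, h, map_one])
    obtain ⟨t', -, hta', htb'⟩ := hT.cyc a' (hsq' _ _ ha' (hsq a haK)) (fun e => ha1 ((h1 _ _ ha').2 e))
      b' (hsq' _ _ hb' (hsq b hbK)) (fun e => hb1 ((h1 _ _ hb').2 e))
      (fun e => hba (hf (by rw [ha', hb', e]))) (inj _ _ (by
        rw [map_mul, map_mul, show ∀ x y : PG, g * (x * y) * g⁻¹ = g * x * g⁻¹ * (g * y * g⁻¹) from
          fun x y => by group, show ∀ x y : PG, g * (x * y) * g⁻¹ = g * x * g⁻¹ * (g * y * g⁻¹) from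
          fun x y => by group, ← ha', ← hb', ← map_mul, ← map_mul, hab]))
    set s := g * f t' * g⁻¹
    have hsa : s * f a = f b * s := by
      rw [ha', hb', show s * (g * f a' * g⁻¹) = g * (f t' * f a') * g⁻¹ by simp [s, mul_assoc],
        ← map_mul, hta', map_mul]
      simp [s, mul_assoc]
    have hsb : s * f b = f a * f b * s := by
      rw [ha', hb', show s * (g * f b' * g⁻¹) = g * (f t' * f b') * g⁻¹ by simp [s, mul_assoc],
        ← map_mul, htb', map_mul, map_mul]
      simp [s, mul_assoc]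
    have hoa : orderOf (f a) = 2 := by rw [orderOf_injective f hf, orderOf_two (hsq a haK) ha1]
    have hob : orderOf (f b) = 2 := by rw [orderOf_injective f hf, orderOf_two (hsq b hbK) hb1]
    have comm : ∀ u w : PG, s * u = w * s → f t * u = w * f t → Commute (s⁻¹ * f t) u := fun u w e e' => by
      show s⁻¹ * f t * u = u * (s⁻¹ * f t)
      rw [mul_assoc, e', ← mul_assoc, ← mul_assoc]
      congr 1
      rw [eq_mul_inv_iff_mul_eq, mul_assoc, inv_mul_eq_iff_eq_mul, e]
    have hsmem : s ∈ f.range.map (MulAut.conj g).toMonoidHom := ⟨f t', ⟨t', rfl⟩, rfl⟩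
    have htK : t ∈ K := by
      show f t ∈ f.range.map (MulAut.conj g).toMonoidHom
      rw [← mul_inv_cancel_left s (f t)]
      refine mul_mem hsmem ?_
      rcases mem_four h2 hoa hob (fun e => hba (hf e).symm) ((show Commute a b from hab).map f)
        (comm _ _ hsa (by rw [← map_mul, hta, map_mul]))
        (comm _ _ hsb (by rw [← map_mul, htb, map_mul, map_mul])) with e | e | e | e <;> rw [e]
      · exact one_mem _
      · exact haK
      · exact hbK
      · exact mul_mem haK hbK
    have ht1 : t = 1 := by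
      calc t = t ^ 4 * (t ^ 3)⁻¹ := by group
        _ = 1 := by
          rw [ht3, inv_one, mul_one, ← h4]
          exact congrArg Subtype.val (pow_card_eq_one' (x := (⟨t, htK⟩ : K)))
    rw [ht1, one_mul, mul_one] at hta
    exact hba hta.symm
  obtain ⟨i, hi, hi1⟩ := hT.inv
  refine not_binAct (bad_of_ti h2 h7 (H := f.range) (i := f i) (by rw [orderOf_injective f hf, orderOf_two hi hi1]) ⟨i, rfl⟩
    ?_ ?_) hb
  · rintro _ ⟨u, rfl⟩ _ ⟨v, rfl⟩ z hzA hzB hz1
    obtain ⟨_, ⟨s, rfl⟩, rfl⟩ := hzA
    obtain ⟨_, ⟨s', rfl⟩, e⟩ := hzB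
    have hs : s ∈ (f.range.map (MulAut.conj (u⁻¹ * v)).toMonoidHom).comap f :=
      ⟨f s', ⟨s', rfl⟩, by
        change v * f s' * v⁻¹ = u * f s * u⁻¹ at e
        show u⁻¹ * v * f s' * (u⁻¹ * v)⁻¹ = f s
        calc _ = u⁻¹ * (v * f s' * v⁻¹) * u := by group
          _ = _ := by rw [e]; group⟩
    rcases hall (u⁻¹ * v) with h | h
    · rw [h, Subgroup.mem_bot] at hs
      exact absurd (by rw [hs, map_one]; simp) hz1
    · have hle : f.range ≤ f.range.map (MulAut.conj (u⁻¹ * v)).toMonoidHom := by
        rintro _ ⟨r, rfl⟩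
        exact (h ▸ Subgroup.mem_top r : r ∈ (f.range.map (MulAut.conj (u⁻¹ * v)).toMonoidHom).comap f)
      have heq := Subgroup.eq_of_le_of_card_ge hle
        (Subgroup.card_map_of_injective (MulAut.conj (u⁻¹ * v)).injective).le
      conv_lhs => rw [heq]
      rw [Subgroup.map_map]
      congr 1
      ext z
      simp [mul_assoc]
  · rintro _ ⟨j, rfl⟩ _ ⟨k, rfl⟩ hj hk hji hki hij hik
    have cancel : ∀ x y : T, Commute (f x) (f y) → x * y = y * x := fun x y h =>
      hf (by rw [map_mul, map_mul]; exact h.eq)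
    have sq : ∀ x : T, orderOf (f x) = 2 → x * x = 1 := fun x h =>
      hf (by rw [map_mul, map_one, Forms.KleinPSL.mul_self_of_order_two h])
    exact (show Commute j k from hT.cen i hi hi1 j (sq j hj) (cancel _ _ hij)
      (fun e => by rw [e, map_one, orderOf_one] at hj; omega) (fun e => hji (by rw [e]))
      k (sq k hk) (cancel _ _ hik)).map f

include F in
/-- The groups like `S₄`. -/
theorem not_binAct_perm4 (h2 : (2 : F) ≠ 0) (h7 : 7 ≤ Fintype.card F) (f : Equiv.Perm (Fin 4) →* PG)
    (hf : Function.Injective f) : ¬ BinAct PG f.range := by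
  intro hb
  classical
  have : Fact (Nat.Prime 3) := ⟨Nat.prime_three⟩
  obtain ⟨c₀, y₀, hc3, hc1, hy3, hy1, hz3, hz1, hxy⟩ := perm4_three
  have hoc : orderOf (f c₀) = 3 := by rw [orderOf_injective f hf, orderOf_eq_prime hc3 hc1]
  have hinj : ∀ {x y : Equiv.Perm (Fin 4)} {z : Equiv.Perm (Fin 4)}, f x * f y = f z → x * y = z :=
    fun h => hf (by rw [map_mul, h])
  have h24 : Nat.card f.range = 24 := by
    rw [← Nat.card_congr (MonoidHom.ofInjective hf).toEquiv, Nat.card_perm, Nat.card_eq_fintype_card,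
      Fintype.card_fin]
    rfl
  have hnorm : ∀ g : PG, ∀ w w' h h' : Equiv.Perm (Fin 4), IsV w → IsV w' → IsV h → IsV h' → w ≠ w' →
      w * w' = w' * w → g * f h * g⁻¹ = f w → g * f h' * g⁻¹ = f w' → g ∈ f.range := by
    intro g w w' h h' hw hw' hh hh' hne hcomm e e'
    have hne' : h ≠ h' := fun eh => hne (hf (by rw [← e, ← e', eh]))
    obtain ⟨u, hu, hu'⟩ := perm4_trans w hw w' hw' hne h hh h' hh' hne'
    have comm : ∀ v r, g * f r * g⁻¹ = f v → u * v = r * u → Commute (g * f u) (f v) := fun v r e1 e2 => by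
      show g * f u * f v = f v * (g * f u)
      rw [mul_assoc g, ← map_mul, e2, map_mul, ← e1]
      group
    refine (f.range.mul_mem_cancel_right ⟨u, rfl⟩).1 ?_
    rcases mem_four h2 (by rw [orderOf_injective f hf, orderOf_two hw.2.1 hw.1])
      (by rw [orderOf_injective f hf, orderOf_two hw'.2.1 hw'.1]) (fun e => hne (hf e))
      ((show Commute w w' from hcomm).map f) (comm _ _ e hu) (comm _ _ e' hu') with h | h | h | h <;> rw [h]
    · exact one_mem _
    · exact ⟨w, rfl⟩
    · exact ⟨w', rfl⟩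
    · exact mul_mem ⟨w, rfl⟩ ⟨w', rfl⟩
  rcases exists_cent_three h2 h7 (h24 ▸ f.range.card_subgroup_dvd_card) hoc with ⟨g, hg, hg2⟩ | hq
  · set K := (f.range.map (MulAut.conj g).toMonoidHom).comap f with hKdef
    have hcK : c₀ ∈ K := ⟨f c₀, ⟨c₀, rfl⟩, show g * f c₀ * g⁻¹ = f c₀ by rw [hg.eq, mul_inv_cancel_right]⟩
    have notin : g ∉ f.range := by
      rintro ⟨r, rfl⟩
      have hr : r * c₀ = c₀ * r := hf (by rw [map_mul, map_mul]; exact hg.eq)
      rcases perm4_cent c₀ hc3 hc1 r hr with rfl | rfl | rfl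
      · exact hg2 0 (by simp)
      · exact hg2 2 (pow_two _).symm
      · exact hg2 4 (by simp [map_mul, pow_succ, mul_assoc])
    have hV : ∀ w ∈ K, ¬ IsV w := by
      intro w hwK hw
      obtain ⟨_, ⟨h, rfl⟩, e⟩ := hwK
      change g * f h * g⁻¹ = f w at e
      have hg' : g⁻¹ * f c₀ * g = f c₀ := by rw [mul_assoc, ← hg.eq, inv_mul_cancel_left]
      obtain ⟨hw', hne, hcomm⟩ := perm4_four c₀ hc3 hc1 w hw
      have e' : g * f (c₀ * h * c₀⁻¹) * g⁻¹ = f (c₀ * w * c₀⁻¹) := by
        rw [map_mul, map_mul, map_mul, map_mul, map_inv, ← e]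
        conv_rhs => rw [show f c₀ * (g * f h * g⁻¹) * (f c₀)⁻¹ =
          g * ((g⁻¹ * f c₀ * g) * f h * (g⁻¹ * f c₀ * g)⁻¹) * g⁻¹ by group, hg']
      have inj : ∀ u v : Equiv.Perm (Fin 4), g * f u * g⁻¹ = g * f v * g⁻¹ → u = v :=
        fun u v h' => hf (by simpa using h')
      have hh1 : h ≠ 1 := fun e1 => hw.1 (hf (by rw [← e, e1]; simp))
      have hhh : h * h = 1 := inj _ _ (by
        rw [map_mul, show g * (f h * f h) * g⁻¹ = g * f h * g⁻¹ * (g * f h * g⁻¹) by group, e, ← map_mul,
          hw.2.1]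
        simp)
      have hhV : IsV h := perm4_comm c₀ hc3 hc1 h hhh hh1 (inj _ _ (by
        have hc' := (show Commute w (c₀ * w * c₀⁻¹) from hcomm).map f
        rw [map_mul f h, map_mul f (c₀ * h * c₀⁻¹),
          show ∀ a b : PG, g * (a * b) * g⁻¹ = g * a * g⁻¹ * (g * b * g⁻¹) from fun a b => by group,
          show ∀ a b : PG, g * (a * b) * g⁻¹ = g * a * g⁻¹ * (g * b * g⁻¹) from fun a b => by group, e, e']
        exact hc'.eq))
      exact notin (hnorm g _ _ _ _ hw hw' hhV (perm4_four c₀ hc3 hc1 h hhV).1 (Ne.symm hne) hcomm e e')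
    have hK : Nat.card K = 3 := by
      have : K = Subgroup.zpowers c₀ := by
        refine le_antisymm (fun k hk => ?_) (Subgroup.zpowers_le.2 hcK)
        by_contra hn
        rcases perm4_gen c₀ hc3 hc1 k (fun e => hn (e ▸ one_mem _))
          (fun e => hn (e ▸ Subgroup.mem_zpowers _))
          (fun e => hn (e ▸ mul_mem (Subgroup.mem_zpowers _) (Subgroup.mem_zpowers _)))
          with ⟨hkk, hkc⟩ | h | h | h | h | h
        · obtain ⟨_, ⟨j, rfl⟩, e⟩ := hk
          change g * f j * g⁻¹ = f k at e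
          have hj : f j = g⁻¹ * f k * g := by rw [← e]; group
          have hfc : f c₀ * f c₀ = (f c₀)⁻¹ := by
            rw [eq_inv_iff_mul_eq_one, ← map_mul, ← map_mul]
            rw [show c₀ * c₀ * c₀ = c₀ ^ 3 by simp [pow_succ], hc3, map_one]
          have hkc' : f k * f c₀ = (f c₀)⁻¹ * f k := by
            rw [← hfc, ← map_mul, hkc, map_mul, map_mul]
          have hjc : f j * f c₀ = (f c₀)⁻¹ * f j := by
            rw [hj, mul_assoc, hg.eq, ← mul_assoc, mul_assoc g⁻¹, hkc', ← mul_assoc, ← mul_assoc,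
              ← mul_assoc, hg.inv_inv.eq]
          have hxg : f j * g * f c₀ = (f c₀)⁻¹ * (f j * g) := by
            rw [mul_assoc, hg.eq, ← mul_assoc, hjc, mul_assoc]
          have hj2 : f j * f j = 1 := by
            rw [hj, show g⁻¹ * f k * g * (g⁻¹ * f k * g) = g⁻¹ * (f k * f k) * g by group, ← map_mul, hkk,
              map_one, mul_one, inv_mul_cancel]
          have hs := sq_one_of_inverting h2 (fun e2 => by
            have h' := orderOf_dvd_of_pow_eq_one (n := 2) (x := f c₀) (by rw [pow_two]; exact e2)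
            rw [hoc] at h'
            omega) hxg
          have h4 : f j * g⁻¹ = g * f j := by
            have h' := inv_eq_of_mul_eq_one_right hs
            rw [_root_.mul_inv_rev, inv_eq_of_mul_eq_one_right hj2] at h'
            calc f j * g⁻¹ = f j * (g⁻¹ * f j) * f j := by rw [← mul_assoc, mul_assoc _ (f j), hj2, mul_one]
              _ = f j * (f j * g) * f j := by rw [h']
              _ = g * f j := by rw [← mul_assoc (f j) (f j) g, hj2, one_mul]
          have hgg : g * g = f (k * j) := by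
            rw [map_mul, ← e, mul_assoc g (f j) g⁻¹, h4, ← mul_assoc, mul_assoc (g * g), hj2, mul_one]
          have hcomm : k * j * c₀ = c₀ * (k * j) := hf (by
            rw [map_mul, map_mul f c₀, ← hgg]
            exact (hg.mul_left hg).eq)
          rcases perm4_cent c₀ hc3 hc1 _ hcomm with e' | e' | e' <;> rw [e'] at hgg
          · exact hg2 0 (by simpa using hgg)
          · exact hg2 1 (by simpa using hgg)
          · exact hg2 2 (by rw [pow_two, ← map_mul]; exact hgg)
        · exact hV _ hk h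
        · exact hV _ (mul_mem hk hk) h
        · exact hV _ (mul_mem hk hcK) h
        · exact hV _ (mul_mem hk (mul_mem hcK hcK)) h
        · exact hV _ (mul_mem (mul_mem hk hcK) (mul_mem hk hcK)) h
      rw [this, Nat.card_zpowers, orderOf_eq_prime hc3 hc1]
    refine not_binAct (bad_of_prime hK ?_ (orderOf_eq_prime hc3 hc1) (orderOf_eq_prime hy3 hy1)
      (orderOf_eq_prime hz3 hz1) hxy) (binAct_pullback hf hb g)
    rw [Nat.card_perm, Nat.card_eq_fintype_card, Fintype.card_fin]
    decide
  · -- seven points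
    have hG : Nat.card PG = 168 := by
      have h := Forms.DicksonCor.gcd_mul_natCard (F := F)
      rw [hq, show Nat.gcd 2 (7 - 1) = 2 from rfl] at h
      omega
    have hcent : ∀ g : PG, Commute g (f c₀) → g ∈ f.range := by
      intro g hg
      have hexp : ∀ z ∈ Subgroup.centralizer ({f c₀} : Set PG), z ^ 3 = 1 := by
        intro z hz
        have hzc : Commute z (f c₀) := Subgroup.mem_centralizer_singleton_iff.1 hz
        by_contra hne
        have hd : orderOf z ∣ 168 := hG ▸ orderOf_dvd_natCard z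
        haveI : Fact (Nat.Prime 7) := ⟨by norm_num⟩
        haveI : CharP F 7 := charP_of_card_eq_prime_pow (p := 7) (f := 1) (by rw [pow_one]; exact hq)
        have bound : ∀ y : PG, ¬ 7 ∣ orderOf y → orderOf y ∣ 4 ∨ orderOf y ∣ 3 := fun y hy => by
          have := Forms.DicksonList.order_dvd 7 y hy
          rwa [hq] at this
        have hn3 : ¬ orderOf z ∣ 3 := fun h => hne (orderOf_dvd_iff_pow_eq_one.1 h)
        obtain ⟨r, hr, hrd, hr3⟩ : ∃ r, Nat.Prime r ∧ r ∣ orderOf z ∧ r ≠ 3 := by
          by_contra! h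
          have h1 : orderOf z ≠ 1 := fun e => hn3 (by rw [e]; exact one_dvd _)
          obtain ⟨r, hr, hrd⟩ := Nat.exists_prime_and_dvd h1
          rw [h r hr hrd] at hrd
          obtain ⟨m, hm⟩ := hrd
          refine hn3 ?_
          rw [hm] at hd ⊢
          have hm1 : m = 1 := by
            by_contra hm1
            obtain ⟨r', hr', hrd'⟩ := Nat.exists_prime_and_dvd hm1
            obtain ⟨m', rfl⟩ := h r' hr' (hm ▸ hrd'.mul_left 3) ▸ hrd'
            have h9 : 9 ∣ 168 := dvd_trans ⟨m', by ring⟩ hd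
            norm_num at h9
          rw [hm1]
        have ho : orderOf (z ^ (orderOf z / r)) = r := by
          rw [orderOf_pow_of_dvd (Nat.div_pos (Nat.le_of_dvd (orderOf_pos z) hrd) hr.pos).ne'
            (Nat.div_dvd_of_dvd hrd), Nat.div_div_self hrd (orderOf_pos z).ne']
        have ho3 : orderOf (z ^ (orderOf z / r) * f c₀) = r * 3 := by
          rw [(hzc.pow_left _).orderOf_mul_eq_mul_orderOf_of_coprime
            (by rw [ho, hoc]; exact (Nat.coprime_primes hr Nat.prime_three).2 hr3), ho, hoc]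
        by_cases h7' : r = 7
        · have := Forms.DicksonBasic.TwoPt.orderOf_eq (Forms.DicksonAction.twoPt (F := F) 7)
            (g := z ^ (orderOf z / r) * f c₀) (by rw [ho3, h7']; norm_num)
          rw [ho3, h7'] at this
          omega
        · have hr2 : 2 ≤ r := hr.two_le
          rcases bound (z ^ (orderOf z / r) * f c₀) (by
            rw [ho3]
            intro h
            rcases (Nat.Prime.dvd_mul (by norm_num)).1 h with h | h
            · exact h7' (((Nat.prime_dvd_prime_iff_eq (by norm_num) hr).1 h).symm)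
            · norm_num at h) with h | h <;> rw [ho3] at h <;> have := Nat.le_of_dvd (by norm_num) h <;> omega
      have hp : IsPGroup 3 (Subgroup.centralizer ({f c₀} : Set PG)) := fun z =>
        ⟨1, Subtype.ext (by simpa using hexp z z.2)⟩
      obtain ⟨n, hn⟩ := IsPGroup.iff_card.1 hp
      have hd := (Subgroup.centralizer ({f c₀} : Set PG)).card_subgroup_dvd_card
      rw [hn, hG] at hd
      have hn1 : n ≤ 1 := by
        by_contra h
        have h9 : 9 ∣ 168 := dvd_trans (pow_dvd_pow 3 (by omega : 2 ≤ n)) hd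
        norm_num at h9
      have hle : Subgroup.zpowers (f c₀) = Subgroup.centralizer ({f c₀} : Set PG) :=
        Subgroup.eq_of_le_of_card_ge (Subgroup.zpowers_le.2 (Subgroup.mem_centralizer_singleton_iff.2 rfl))
          (by rw [Nat.card_zpowers, hoc, hn]; exact (Nat.pow_le_pow_right (by norm_num) hn1).trans (by norm_num))
      have : g ∈ Subgroup.zpowers (f c₀) := hle ▸ Subgroup.mem_centralizer_singleton_iff.2 hg.eq
      exact Subgroup.zpowers_le.2 (⟨c₀, rfl⟩ : f c₀ ∈ f.range) this
    have hthree : ∀ g : PG, 3 ∣ Nat.card ((f.range.map (MulAut.conj g).toMonoidHom).comap f) → g ∈ f.range := by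
      intro g h3
      obtain ⟨⟨x, hx⟩, hxo⟩ := exists_prime_orderOf_dvd_card'
        (G := ((f.range.map (MulAut.conj g).toMonoidHom).comap f)) 3 h3
      rw [← Subgroup.orderOf_coe] at hxo
      obtain ⟨_, ⟨h, rfl⟩, e⟩ := hx
      change g * f h * g⁻¹ = f x at e
      have hho : orderOf h = 3 := by
        rw [← orderOf_injective f hf, ← MulEquiv.orderOf_eq (MulAut.conj g) (f h)]
        show orderOf (g * f h * g⁻¹) = 3
        rw [e, orderOf_injective f hf]
        exact hxo
      obtain ⟨hx3, hx1⟩ := orderOf_eq_prime_iff.1 hxo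
      obtain ⟨hh3, hh1⟩ := orderOf_eq_prime_iff.1 hho
      obtain ⟨u, hu⟩ := perm4_conj c₀ hc3 hc1 x hx3 hx1
      obtain ⟨v, hv⟩ := perm4_conj c₀ hc3 hc1 h hh3 hh1
      have hm := hcent ((f u)⁻¹ * g * f v) (by
        show (f u)⁻¹ * g * f v * f c₀ = f c₀ * ((f u)⁻¹ * g * f v)
        rw [← hu, ← hv, map_mul, map_mul, map_inv, map_mul, map_mul, map_inv] at e
        calc _ = (f u)⁻¹ * (g * (f v * f c₀ * (f v)⁻¹) * g⁻¹) * g * f v := by group
          _ = _ := by rw [e]; group)
      rwa [f.range.mul_mem_cancel_right ⟨v, rfl⟩, f.range.mul_mem_cancel_left (inv_mem ⟨u, rfl⟩)] at hm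
    have hidx : f.range.index = 7 := by
      have := f.range.card_mul_index
      rw [h24, hG] at this
      omega
    letI : MulAction (Equiv.Perm (Fin 4)) (PG ⧸ f.range) := MulAction.compHom _ f
    have hstab : ∀ g : PG, MulAction.stabilizer (Equiv.Perm (Fin 4)) (g : PG ⧸ f.range) =
        (f.range.map (MulAut.conj g).toMonoidHom).comap f := fun g => by
      ext t
      rw [MulAction.mem_stabilizer_iff, Subgroup.mem_comap]
      exact Cfsg.Agent.Suzuki.Binary.mem_stab_iff.symm
    have hbase : ∀ t : Equiv.Perm (Fin 4), f t • ((1 : PG) : PG ⧸ f.range) = ((1 : PG) : PG ⧸ f.range) :=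
      fun t => Cfsg.Agent.Suzuki.Binary.mem_stab_iff.1 ⟨f t, ⟨t, rfl⟩, by simp⟩
    have hne : ∀ g : PG, g ∉ f.range → ((g : PG ⧸ f.range)) ≠ ((1 : PG) : PG ⧸ f.range) := fun g hg e => by
      rw [QuotientGroup.eq, mul_one, inv_mem_iff] at e
      exact hg e
    by_cases htr : ∃ g : PG, g ∉ f.range ∧
        (MulAction.orbit (Equiv.Perm (Fin 4)) (g : PG ⧸ f.range)).ncard = 6
    · obtain ⟨g, hg, horb⟩ := htr
      have hO : MulAction.orbit (Equiv.Perm (Fin 4)) (g : PG ⧸ f.range) = {((1 : PG) : PG ⧸ f.range)}ᶜ := by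
        refine Set.eq_of_subset_of_ncard_le ?_ ?_
        · rintro _ ⟨t, rfl⟩ (e : f t • (g : PG ⧸ f.range) = _)
          rw [← hbase t] at e
          exact hne g hg (MulAction.injective _ e)
        · rw [horb, Set.ncard_compl, Set.ncard_singleton]
          exact le_of_eq (by rw [Subgroup.index] at hidx; omega)
      refine not_binAct_two_transitive (fun a b c d hab hcd => ?_) (by omega) ?_ hb
      · obtain ⟨α, rfl⟩ := QuotientGroup.mk_surjective a
        obtain ⟨γ, rfl⟩ := QuotientGroup.mk_surjective c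
        have mem : ∀ (a : PG) (p : PG ⧸ f.range), (a : PG ⧸ f.range) ≠ p →
            a⁻¹ • p ∈ MulAction.orbit (Equiv.Perm (Fin 4)) (g : PG ⧸ f.range) := fun a p hap => by
          rw [hO]
          intro (e : a⁻¹ • p = _)
          rw [inv_smul_eq_iff] at e
          exact hap (by rw [e]; exact congrArg QuotientGroup.mk (mul_one a).symm)
        obtain ⟨t₁, ht₁⟩ := mem α b hab
        obtain ⟨t₂, ht₂⟩ := mem γ d hcd
        change f t₁ • (g : PG ⧸ f.range) = α⁻¹ • b at ht₁
        change f t₂ • (g : PG ⧸ f.range) = γ⁻¹ • d at ht₂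
        refine ⟨γ * f (t₂ * t₁⁻¹) * α⁻¹, ?_, ?_⟩
        · rw [mul_smul, mul_smul,
            show α⁻¹ • (α : PG ⧸ f.range) = ((1 : PG) : PG ⧸ f.range) from
              congrArg QuotientGroup.mk (inv_mul_cancel α), hbase]
          exact congrArg QuotientGroup.mk (mul_one γ)
        · rw [mul_smul, mul_smul, map_mul, mul_smul, map_inv, ← ht₁, inv_smul_smul, ht₂, smul_inv_smul]
      · rw [hidx, hG]
        decide
    · push Not at htr
      obtain ⟨u, hu4, hu2⟩ := perm4_quarter
      have hall : ∀ g : PG, u * u ∈ (f.range.map (MulAut.conj g).toMonoidHom).comap f := by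
        intro g
        by_cases hg : g ∈ f.range
        · exact ⟨g⁻¹ * f (u * u) * g, mul_mem (mul_mem (inv_mem hg) ⟨_, rfl⟩) hg,
            show g * (g⁻¹ * f (u * u) * g) * g⁻¹ = _ by group⟩
        set K := (f.range.map (MulAut.conj g).toMonoidHom).comap f with hKdef
        have hK3 : ¬ 3 ∣ Nat.card K := fun h => hg (hthree g h)
        have hle : K.index ≤ 6 := by
          rw [hKdef, ← hstab, MulAction.index_stabilizer]
          refine (Set.ncard_le_ncard (t := {((1 : PG) : PG ⧸ f.range)}ᶜ) ?_).trans ?_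
          · rintro _ ⟨t, rfl⟩ (e : f t • (g : PG ⧸ f.range) = _)
            rw [← hbase t] at e
            exact hne g hg (MulAction.injective _ e)
          · rw [Set.ncard_compl, Set.ncard_singleton]
            exact le_of_eq (by rw [Subgroup.index] at hidx; omega)
        have hne6 : K.index ≠ 6 := by
          rw [hKdef, ← hstab, MulAction.index_stabilizer]
          exact htr g hg
        have hcard := K.card_mul_index
        rw [Nat.card_perm, Nat.card_fin, show Nat.factorial 4 = 24 from rfl] at hcard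
        have hi3 : K.index = 3 := by
          generalize K.index = i at *
          interval_cases i <;> omega
        obtain ⟨n, hn0, hn3, hn⟩ := K.exists_pow_mem_of_index_ne_zero (by omega) u
        rw [hi3] at hn3
        interval_cases n
        · rw [pow_one] at hn; exact mul_mem hn hn
        · rwa [pow_two] at hn
        · have h2' := mul_mem hn hn
          rw [show u ^ 3 * u ^ 3 = u ^ 4 * (u * u) by group, hu4, one_mul] at h2'
          exact h2'
      have hcore : f (u * u) ∈ f.range.normalCore := fun b => by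
        obtain ⟨h, hh, e⟩ := hall b⁻¹
        change b⁻¹ * h * b⁻¹⁻¹ = f (u * u) at e
        rw [← e, show b * (b⁻¹ * h * b⁻¹⁻¹) * b⁻¹ = h by group]
        exact hh
      haveI := Matrix.ProjectiveSpecialLinearGroup.rank_two_simple (F := F)
        (by rw [Nat.card_eq_fintype_card]; omega)
      rcases f.range.normalCore_normal.eq_bot_or_eq_top with h | h
      · rw [h, Subgroup.mem_bot, ← map_one f] at hcore
        exact hu2 (hf hcore)
      · have : f.range = ⊤ := top_le_iff.1 (h ▸ f.range.normalCore_le)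
        rw [this, Subgroup.index_top] at hidx
        omega

end Abstract

end Cfsg.Agent.PSLBinary
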