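import Cfsg.Agent.Lib.PSLBinary.Criterion
import Cfsg.Agent.Lib.Involutions.ThompsonTransfer

/-!
# Subgroups of order twice an odd number
-/

set_option autoImplicit false
set_option linter.unusedSectionVars false

namespace Cfsg.Agent.PSLBinary

open Cfsg.Agent.Suzuki.Binary (BinAct IsConjOf Bad)

variable {G : Type*} [Group G] [Finite G]

/-- In a group of order twice an odd number, having odd order is a homomorphism to `ℤ/2`. -/
theorem odd_orderOf_mul {A : Subgroup G} (hA : Nat.card A % 4 = 2) {a b : G} (ha : a ∈ A) (hb : b ∈ A) :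
    Odd (orderOf (a * b)) ↔ (Odd (orderOf a) ↔ Odd (orderOf b)) := by
  haveI : Fact (Nat.Prime 2) := ⟨Nat.prime_two⟩
  obtain ⟨t, ht⟩ := exists_prime_orderOf_dvd_card' (G := A) 2 (by omega)
  obtain ⟨K, hK, -⟩ := Involutions.ThompsonTransfer.exists_index_two_of_no_conj (⊥ : Subgroup A)
    (by rw [Subgroup.index_bot]; exact hA) t ht (fun g hg => by
      rw [Subgroup.mem_bot, conj_eq_one_iff] at hg
      rw [hg, orderOf_one] at ht
      omega)
  have hcK : Odd (Nat.card K) := by
    have := K.index_mul_card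
    rw [hK] at this
    rw [Nat.odd_iff]
    omega
  have key : ∀ x : A, Odd (orderOf (x : G)) ↔ x ∈ K := by
    intro x
    rw [Subgroup.orderOf_coe]
    constructor
    · rintro ⟨k, hk⟩
      have h1 : x ^ (2 * k + 1) ∈ K := by rw [← hk, pow_orderOf_eq_one]; exact K.one_mem
      rw [pow_succ, pow_mul] at h1
      exact (K.mul_mem_cancel_left (K.pow_mem (by rw [pow_two]; exact Subgroup.mul_self_mem_of_index_two hK x) k)).1 h1
    · intro hx
      exact hcK.of_dvd_nat (Subgroup.orderOf_dvd_natCard _ hx)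
  rw [key ⟨a, ha⟩, key ⟨b, hb⟩, show a * b = ((⟨a, ha⟩ * ⟨b, hb⟩ : A) : G) from rfl, key,
    Subgroup.mul_mem_iff_of_index_two hK]

/-- A subgroup of order twice an odd number, when there is a four-group all of whose involutions
meet its class. -/
theorem bad_of_two_mod_four {H : Subgroup G} (hH : Nat.card H % 4 = 2) {x y : G} (hc : Commute x y)
    (hx : orderOf x = 2) (hy : orderOf y = 2) (hz : orderOf (x * y) = 2)
    (hconj : ∀ a b : G, orderOf a = 2 → orderOf b = 2 → IsConj a b) : Bad H := by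
  haveI : Fact (Nat.Prime 2) := ⟨Nat.prime_two⟩
  obtain ⟨i, hi⟩ := exists_prime_orderOf_dvd_card' (G := H) 2 (by omega)
  have hi' : orderOf (i : G) = 2 := by rw [Subgroup.orderOf_coe, hi]
  have get : ∀ a : G, orderOf a = 2 → ∃ A, IsConjOf H A ∧ a ∈ A ∧ Nat.card A % 4 = 2 := by
    intro a ha
    obtain ⟨g, hg⟩ := isConj_iff.1 (hconj _ _ hi' ha)
    exact ⟨_, ⟨g, rfl⟩, ⟨i, i.2, hg⟩, by rw [natCard_of_isConjOf ⟨g, rfl⟩]; exact hH⟩
  have hinv : ∀ a : G, orderOf a = 2 → a⁻¹ = a := fun a ha =>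
    inv_eq_of_mul_eq_one_right (by rw [← pow_two, ← ha, pow_orderOf_eq_one])
  obtain ⟨A, hAc, hxA, hA⟩ := get x hx
  obtain ⟨B, hBc, hyB, hB⟩ := get y hy
  obtain ⟨C, hCc, hzC, hC⟩ := get _ hz
  have hev : ∀ a : G, orderOf a = 2 → ¬ Odd (orderOf a) := fun a ha => by rw [ha]; decide
  refine ⟨A, B, C, hAc, hBc, hCc, x, hxA, y, hyB, by rw [hinv x hx]; exact hzC, fun g hgA hgB hgC => ?_⟩
  rw [hinv x hx] at hgC
  have e : x * y * (x * g) = y * g := by
    rw [hc.eq, show y * x * (x * g) = y * (x * x) * g by group, ← pow_two, ← hx, pow_orderOf_eq_one,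
      mul_one]
  have h1 := odd_orderOf_mul hA hxA hgA
  have h2 := odd_orderOf_mul hB hyB hgB
  have h3 := odd_orderOf_mul hC hzC hgC
  rw [e] at h3
  have n1 := hev x hx
  have n2 := hev y hy
  have n3 := hev _ hz
  tauto

end Cfsg.Agent.PSLBinary
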