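import Cfsg.Agent.Lib.PSLBinary.Transitive
import Cfsg.Agent.Lib.PSLBinary.Exceptional
import Cfsg.Agent.Lib.PSLBinary.Dihedral
import Cfsg.Agent.Lib.PSLBinary.Cyclic
import Cfsg.Agent.Lib.PSLBinary.Parity
import Cfsg.Agent.Lib.Forms.DicksonList

/-!
# The subgroup classes
-/

set_option autoImplicit false
set_option linter.unusedSectionVars false

namespace Cfsg.Agent.PSLBinary

open Matrix
open scoped MatrixGroups _root_.Classical
open Cfsg.Agent.Suzuki.Binary (BinAct IsConjOf Bad not_binAct mem_conj_iff)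
open Cfsg.Agent.Classical.GL2 (uniSL lowSL coe_uniSL coe_lowSL)

variable {F : Type*} [Field F] [Fintype F]

local notation "M2" => Matrix (Fin 2) (Fin 2) F
local notation "π" => Forms.KleinPSL.pi F
local notation "PG" => Matrix.ProjectiveSpecialLinearGroup (Fin 2) F

theorem invol_conj_one (h2 : (2 : F) = 0) {a : PG} (ha : orderOf a = 2) :
    IsConj (π (uniSL (1 : F))) a := by
  haveI : Fact (Nat.Prime 2) := ⟨Nat.prime_two⟩
  obtain ⟨P₀, hP₀⟩ := exists_sylow_unip (F := F) h2
  have hp : IsPGroup 2 (Subgroup.zpowers a) := IsPGroup.of_card (n := 1) (by rw [Nat.card_zpowers, ha, pow_one])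
  obtain ⟨P, hP⟩ := hp.exists_le_sylow
  obtain ⟨g, hg⟩ := MulAction.exists_smul_eq PG P₀ P
  have hm : a ∈ (P : Subgroup PG) := hP (Subgroup.mem_zpowers a)
  rw [← hg, Sylow.coe_subgroup_smul, hP₀] at hm
  obtain ⟨_, ⟨b, rfl⟩, e⟩ := hm
  obtain ⟨r, hr⟩ := exists_sq_eq h2 (Multiplicative.toAdd b)
  have hr0 : r ≠ 0 := fun er => by
    rw [er, mul_zero] at hr
    have : (π).comp (Classical.GL2.uniHom F) b = 1 := by
      show π (uniSL (Multiplicative.toAdd b)) = 1
      rw [← hr, Classical.GL2.uniSL_zero, map_one]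
    rw [this] at e
    change g * 1 * g⁻¹ = a at e
    rw [mul_one, mul_inv_cancel] at e
    rw [← e, orderOf_one] at ha
    omega
  refine isConj_iff.2 ⟨g * π (diag (Units.mk0 r hr0)), ?_⟩
  rw [← e]
  show g * π (diag (Units.mk0 r hr0)) * π (uniSL 1) * (g * π (diag (Units.mk0 r hr0)))⁻¹ =
    g * π (uniSL (Multiplicative.toAdd b)) * g⁻¹
  rw [_root_.mul_inv_rev, show ∀ x y z w : PG, x * y * z * (w * x⁻¹) = x * (y * z * w) * x⁻¹ from
    fun x y z w => by simp [mul_assoc], ← map_inv (π) (diag _), ← map_mul, ← map_mul, diag_uni,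
    mul_inv_cancel_right, Units.val_mk0, mul_one, pow_two, hr]

/-- A four-group and one class of involutions. -/
theorem exists_four (h4 : 4 ≤ Fintype.card F) (h5 : Fintype.card F ≠ 5) :
    (∃ x y : PG, Commute x y ∧ orderOf x = 2 ∧ orderOf y = 2 ∧ orderOf (x * y) = 2) ∧
      ∀ a b : PG, orderOf a = 2 → orderOf b = 2 → IsConj a b := by
  by_cases h2 : (2 : F) = 0
  · refine ⟨?_, fun a b ha hb => (invol_conj_one h2 ha).symm.trans (invol_conj_one h2 hb)⟩
    classical
    obtain ⟨w, hw0, hw1⟩ : ∃ w : F, w ≠ 0 ∧ w ≠ 1 := by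
      by_contra! h
      have := Finset.card_le_card (s := Finset.univ) (t := ({0, 1} : Finset F)) fun w _ => by
        by_cases hw : w = 0 <;> simp [hw, h w]
      have := Finset.card_le_two (a := (0 : F)) (b := 1)
      rw [Finset.card_univ] at *
      omega
    have ho : ∀ c : F, c ≠ 0 → orderOf (π (uniSL c)) = 2 := fun c hc => by
      refine orderOf_eq_prime ?_ fun e => hc ?_
      · rw [pow_two, ← map_mul, Classical.GL2.uniSL_mul, show c + c = 0 by linear_combination c * h2,
          Classical.GL2.uniSL_zero, map_one]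
      · have := congrArg (fun Z : SL(2, F) => (Z : M2) 0 1) (pi_injective h2 (e.trans (map_one _).symm))
        simpa [coe_uniSL] using this
    refine ⟨π (uniSL 1), π (uniSL w), pi_commute_of ?_, ho 1 one_ne_zero, ho w hw0, ?_⟩
    · rw [Classical.GL2.uniSL_mul, Classical.GL2.uniSL_mul, add_comm]
    · rw [← map_mul, Classical.GL2.uniSL_mul]
      exact ho _ fun e => hw1 (by linear_combination e - h2)
  · have h7 : 7 ≤ Fintype.card F := by
      have := ringChar.charP F
      have hodd : Fintype.card F % 2 = 1 := FiniteField.odd_card_of_char_ne_two fun e => h2 (by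
        have := CharP.cast_eq_zero F (ringChar F)
        rw [e] at this
        exact_mod_cast this)
      omega
    haveI : Fact (Nat.Prime 2) := ⟨Nat.prime_two⟩
    obtain ⟨x, hx⟩ : ∃ x : PG, orderOf x = 2 :=
      ⟨π weyl, (Forms.KleinPSL.orderOf_pi_eq_two h2).2 (by apply sl2_ext <;> simp [coe_weyl, Matrix.SpecialLinearGroup.coe_mul])⟩
    obtain ⟨y, -, hy, -, hne, -, hc, -⟩ := exists_two_perp h2 h7 hx
    exact ⟨⟨x, y, hc, hx, hy, orderOf_mul_two hx hy (Ne.symm hne) hc⟩,
      fun a b ha hb => involutions_conj h2 ha hb⟩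

theorem binOdd_cube (h2 : (2 : F) = 0) {a : ℕ} (ha : Fintype.card F = 2 ^ a) (hev : Even a) :
    ∃ ω : F, ω ^ 2 + ω + 1 = 0 := by
  haveI : Fact (Nat.Prime 3) := ⟨Nat.prime_three⟩
  obtain ⟨u, hu⟩ := exists_prime_orderOf_dvd_card' (G := Fˣ) 3 (by
    rw [Classical.Linear.natCard_units_eq, ha]
    obtain ⟨k, rfl⟩ := hev
    have : (2 ^ 2) ^ k % 3 = 1 := by rw [Nat.pow_mod]; simp
    rw [← two_mul, pow_mul]
    omega)
  obtain ⟨hu3, hu1⟩ := orderOf_eq_prime_iff.1 hu
  refine ⟨u, mul_left_cancel₀ (sub_ne_zero.2 (show (u : F) ≠ 1 from fun e => hu1 (Units.ext e))) ?_⟩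
  have : (u : F) ^ 3 = 1 := by rw [← Units.val_pow_eq_pow_val, hu3, Units.val_one]
  linear_combination this

theorem not_binAct_zpowers (c : PG) (hc : c ≠ 1) {p : ℕ} [Fact p.Prime] [CharP F p] (hp : ¬ p ∣ orderOf c)
    (hexc : ¬ ((∃ a, Odd a ∧ Fintype.card F = 2 ^ a) ∧ Nat.card (Subgroup.zpowers c) = 3)) :
    ¬ BinAct PG (Subgroup.zpowers c) := by
  obtain ⟨C, rfl⟩ := Forms.KleinPSL.pi_surjective c
  refine not_binAct (bad_cyclic C (fun e => hp ?_) fun h2 ht => ?_)
  · rw [(Forms.DicksonAction.orderOf_iff p C hc).2 (by rw [← pow_two]; exact e)]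
  · haveI : CharP F 2 := CharTwo.of_one_ne_zero_of_two_eq_zero one_ne_zero h2
    obtain ⟨n, -, hn⟩ := FiniteField.card F 2
    refine binOdd_cube h2 hn (by_contra fun hodd => hexc ⟨⟨n, Nat.not_even_iff_odd.1 hodd, hn⟩, ?_⟩)
    rw [Nat.card_zpowers]
    haveI : Fact (Nat.Prime 3) := ⟨Nat.prime_three⟩
    have hC2 : ∀ i j, ((C * C : SL(2, F)) : M2) i j = (C : M2) i j - (1 : M2) i j := fun i j => by
      have hd := sl2_det C
      rw [trace_fin_two] at ht
      fin_cases i <;> fin_cases j <;>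
        simp [Matrix.SpecialLinearGroup.coe_mul, Matrix.mul_apply, Fin.sum_univ_two]
      · linear_combination (C : M2) 0 0 * ht - hd
      · linear_combination (C : M2) 0 1 * ht
      · linear_combination (C : M2) 1 0 * ht
      · linear_combination (C : M2) 1 1 * ht - hd
    have hM : (C : M2) * (C : M2) = (C : M2) - 1 := by
      rw [← Matrix.SpecialLinearGroup.coe_mul]; exact Matrix.ext fun i j => by rw [hC2]; rfl
    refine orderOf_eq_prime ?_ hc
    rw [← map_pow, Forms.KleinPSL.pi_eq_one]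
    right
    refine Subtype.ext ?_
    rw [pow_succ, pow_two, Matrix.SpecialLinearGroup.coe_mul, Matrix.SpecialLinearGroup.coe_mul, hM, sub_mul,
      one_mul, hM, Matrix.SpecialLinearGroup.coe_neg, Matrix.SpecialLinearGroup.coe_one]
    abel

theorem not_binAct_dihedral (h4 : 4 ≤ Fintype.card F) (h5 : Fintype.card F ≠ 5) {p : ℕ} [hp : Fact p.Prime]
    [CharP F p] {H : Subgroup PG} {m : ℕ} (hm : 0 < m) (e : H ≃* DihedralGroup m) (hpm : ¬ p ∣ m) :
    ¬ BinAct PG H := by
  obtain ⟨⟨x, y, hc, hx, hy, hz⟩, hconj⟩ := exists_four (F := F) h4 h5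
  have hcard : Nat.card H = 2 * m := by rw [Nat.card_congr e.toEquiv, DihedralGroup.nat_card]
  rcases Nat.even_or_odd' m with ⟨k, rfl | rfl⟩
  · have h2 : (2 : F) ≠ 0 := fun h => hpm (by
      have : p = 2 := (Nat.prime_dvd_prime_iff_eq hp.out Nat.prime_two).1
        ((CharP.cast_eq_zero_iff F p 2).1 (by exact_mod_cast h))
      exact this ▸ dvd_mul_right 2 k)
    have h7 : 7 ≤ Fintype.card F := by
      have := ringChar.charP F
      have hodd : Fintype.card F % 2 = 1 := FiniteField.odd_card_of_char_ne_two fun e => h2 (by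
        have := CharP.cast_eq_zero F (ringChar F)
        rw [e] at this
        exact_mod_cast this)
      omega
    have hk2 : (k : ZMod (2 * k)) + k = 0 := by
      rw [← Nat.cast_add, ← two_mul, ZMod.natCast_self]
    have hk0 : (k : ZMod (2 * k)) ≠ 0 := by
      rw [Ne, ZMod.natCast_eq_zero_iff]
      intro h
      have := Nat.le_of_dvd (by omega) h
      omega
    have hneg : -(k : ZMod (2 * k)) = k := neg_eq_of_add_eq_zero_left hk2
    set a := e.symm (DihedralGroup.r (k : ZMod (2 * k)))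
    set r := e.symm (DihedralGroup.sr (0 : ZMod (2 * k)))
    have key : ∀ g : DihedralGroup (2 * k), Commute g (DihedralGroup.r (k : ZMod (2 * k))) := by
      rintro (i | i)
      · show DihedralGroup.r i * DihedralGroup.r _ = DihedralGroup.r _ * DihedralGroup.r i
        rw [DihedralGroup.r_mul_r, DihedralGroup.r_mul_r, add_comm]
      · show DihedralGroup.sr i * DihedralGroup.r _ = DihedralGroup.r _ * DihedralGroup.sr i
        rw [DihedralGroup.sr_mul_r, DihedralGroup.r_mul_sr, sub_eq_add_neg, hneg]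
    have ha : orderOf (a : PG) = 2 := by
      rw [Subgroup.orderOf_coe, MulEquiv.orderOf_eq]
      refine orderOf_eq_prime ?_ ?_
      · rw [pow_two, DihedralGroup.r_mul_r, hk2, DihedralGroup.one_def]
      · rw [DihedralGroup.one_def, Ne, DihedralGroup.r.injEq]
        exact hk0
    have hr : orderOf (r : PG) = 2 := by
      rw [Subgroup.orderOf_coe, MulEquiv.orderOf_eq, DihedralGroup.orderOf_sr]
    refine not_binAct (bad_of_central_invol h2 h7 ha hr (fun h => ?_) r.2 fun g hg => ?_)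
    · exact absurd (e.symm.injective (Subtype.ext h)) (by simp)
    · have := ((key (e ⟨g, hg⟩)).map e.symm.toMonoidHom).map H.subtype
      simpa using this
  · exact not_binAct (bad_of_two_mod_four (by rw [hcard]; omega) hc hx hy hz hconj)

theorem exists_infty (w : OnePoint F) : ∃ γ : SL(2, F),
    Matrix.SpecialLinearGroup.toGL γ • w = OnePoint.infty := by
  cases w with
  | infty => exact ⟨1, by rw [map_one, one_smul]⟩
  | coe t =>
    refine ⟨weyl * uniSL (-t), ?_⟩
    rw [OnePoint.smul_some_eq_ite, if_pos]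
    simp [Matrix.SpecialLinearGroup.coe_mul, coe_uniSL, coe_weyl, Matrix.mul_apply, Fin.sum_univ_two]

/-- A subgroup fixing the point of one of its elements of order `p`. -/
theorem not_binAct_fix {p : ℕ} [hp : Fact p.Prime] [CharP F p] {H : Subgroup PG}
    {z : OnePoint (AlgebraicClosure F)} (hfix : ∀ g ∈ H, g • z = z) {u : PG} (huH : u ∈ H)
    (hu : orderOf u = p) (hexc : ¬ ((2 : F) = 0 ∧ Nat.card H = Fintype.card F)) : ¬ BinAct PG H := by
  obtain ⟨w, rfl⟩ := Forms.DicksonField.rational_of_fix p hu (hfix u huH)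
  obtain ⟨γ, hγ⟩ := exists_infty w
  set e := MulAut.conj (π γ)
  intro hb
  refine not_binAct_of_upper (H := H.map e.toMonoidHom) ?_ ?_ ?_ (binAct_map e hb)
  · intro X hX
    rw [mem_conj_iff] at hX
    have h := hfix _ hX
    rw [mul_smul, mul_smul, inv_smul_eq_iff, Forms.DicksonField.pi_smul_emb γ, hγ] at h
    exact (Forms.DicksonAction.smul_infty_iff X).1 h
  · intro hbot
    obtain ⟨U, rfl⟩ := Forms.KleinPSL.pi_surjective u
    have hU : π (γ * U * γ⁻¹) ∈ H.map e.toMonoidHom := ⟨_, huH, by simp [e, map_mul]⟩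
    set V := γ * U * γ⁻¹
    have hV : orderOf (π V) = p := by
      rw [← hu, show π V = e (π U) by simp [V, e, map_mul], MulEquiv.orderOf_eq]
    have hV10 : (V : M2) 1 0 = 0 := by
      have h := hfix _ (mem_conj_iff.1 hU)
      rw [mul_smul, mul_smul, inv_smul_eq_iff, Forms.DicksonField.pi_smul_emb γ, hγ] at h
      exact (Forms.DicksonAction.smul_infty_iff V).1 h
    have hV1 : π V ≠ 1 := fun e1 => by rw [e1, orderOf_one] at hV; exact hp.out.one_lt.ne hV
    have ht := (Forms.DicksonAction.orderOf_iff p V hV1).1 hV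
    obtain ⟨a, hae, he⟩ := eq_diag_mul_uni hV10
    have hd := sl2_det V
    rw [hV10, mul_zero, sub_zero] at hd
    rw [trace_fin_two] at ht
    have h00 : (V : M2) 0 0 = (V : M2) 1 1 := by
      refine sub_eq_zero.1 (mul_self_eq_zero.1 ?_)
      linear_combination ht - 4 * hd
    have hda : (diag a : M2) 0 0 = (diag a : M2) 1 1 := by
      simp only [coe_diag, of_apply, cons_val', cons_val_zero, cons_val_one, cons_val_fin_one,
        Units.val_inv_eq_inv_val]
      refine eq_inv_of_mul_eq_one_left ?_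
      rw [hae]
      conv_lhs => arg 2; rw [h00]
      exact hd
    have hπ : π V = π (uniSL ((V : M2) 0 1 / (V : M2) 0 0)) := by
      conv_lhs => rw [he]
      rw [map_mul, Forms.KleinPSL.pi_eq_one.2 (eq_one_or_neg_one (X := diag a) (by simp [coe_diag])
        (by simp [coe_diag]) hda), one_mul]
    have hmem : (V : M2) 0 1 / (V : M2) 0 0 ∈ transPar (H.map e.toMonoidHom) := by
      rw [mem_transPar, ← hπ]
      exact hU
    rw [hbot, AddSubgroup.mem_bot] at hmem
    exact hV1 (by rw [hπ, hmem, Classical.GL2.uniSL_zero, map_one])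
  · rintro ⟨h2, hc⟩
    exact hexc ⟨h2, (Subgroup.card_map_of_injective e.injective).symm.trans hc⟩

/-- All cases but the exceptional subgroups in odd characteristic. -/
theorem not_binAct_cases (h4 : 4 ≤ Fintype.card F) (h5 : Fintype.card F ≠ 5) {H : Subgroup PG}
    (hH : H ≠ ⊤) (hne : H ≠ ⊥) (he2 : ¬ ((2 : F) = 0 ∧ Nat.card H = Fintype.card F))
    (he3 : ¬ ((∃ a, Odd a ∧ Fintype.card F = 2 ^ a) ∧ Nat.card H = 3)) :
    ¬ BinAct PG H ∨ ((2 : F) ≠ 0 ∧ (Nonempty (H ≃* alternatingGroup (Fin 4)) ∨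
      Nonempty (H ≃* Equiv.Perm (Fin 4)) ∨ Nonempty (H ≃* alternatingGroup (Fin 5)))) := by
  classical
  obtain ⟨p, _⟩ := CharP.exists F
  haveI : Fact p.Prime := ⟨CharP.char_is_prime F p⟩
  have hT := Forms.DicksonAction.twoPt (F := F) p
  have hTH := hT.subgroup H
  have hnd : ∀ c : H, orderOf c ≠ p → ¬ p ∣ orderOf (c : PG) := fun c hc h => by
    rw [Subgroup.orderOf_coe] at h
    exact hc (hTH.orderOf_eq h)
  have htwo : ∀ (T : Type) [Group T] [Fintype T] (e : H ≃* T), 2 ∣ Nat.card T → (∀ g : H, orderOf g ≠ p) →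
      (2 : F) ≠ 0 := by
    intro T _ _ e hd hN h2
    haveI : Fact (Nat.Prime 2) := ⟨Nat.prime_two⟩
    obtain ⟨g, hg⟩ := exists_prime_orderOf_dvd_card' (G := H) 2 (by rw [Nat.card_congr e.toEquiv]; exact hd)
    refine hN g (hg.trans ((Nat.prime_dvd_prime_iff_eq (CharP.char_is_prime F p) Nat.prime_two).1
      ((CharP.cast_eq_zero_iff F p 2).1 (by exact_mod_cast h2))).symm)
  have hdih : ∀ c : H, c ≠ 1 → orderOf c ≠ p → Nonempty (H ≃* DihedralGroup (orderOf c)) → ¬ BinAct PG H :=
    fun c _ hcp ⟨e⟩ => not_binAct_dihedral h4 h5 (orderOf_pos c) e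
      (fun h => hcp (hTH.orderOf_eq h))
  by_cases hN : ∀ g : H, orderOf g ≠ p
  · rcases Forms.DicksonCount.classify_coprime hTH hN with h | ⟨c, hc1, h⟩ | ⟨⟨e⟩⟩ | ⟨⟨e⟩⟩ | ⟨⟨e⟩⟩
    · left
      obtain ⟨c, hc⟩ := IsCyclic.exists_generator (α := H)
      have hHc : Subgroup.zpowers (c : PG) = H := by
        refine le_antisymm (Subgroup.zpowers_le.2 c.2) fun g hg => ?_
        obtain ⟨k, hk⟩ := hc ⟨g, hg⟩
        exact ⟨k, congrArg Subtype.val hk⟩
      have hc1 : (c : PG) ≠ 1 := fun e => hne (by rw [← hHc, e, Subgroup.zpowers_one_eq_bot])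
      rw [← hHc]
      exact not_binAct_zpowers _ hc1 (p := p) (hnd c (hN c)) (by rwa [hHc])
    · exact Or.inl (hdih c hc1 (hN c) h)
    · refine Or.inr ⟨htwo _ e ?_ hN, Or.inl ⟨e⟩⟩
      rw [Nat.card_eq_fintype_card]; decide
    · refine Or.inr ⟨htwo _ e ?_ hN, Or.inr (Or.inl ⟨e⟩)⟩
      rw [Nat.card_eq_fintype_card]; decide
    · refine Or.inr ⟨htwo _ e ?_ hN, Or.inr (Or.inr ⟨e⟩)⟩
      rw [Nat.card_eq_fintype_card]; decide
  · push Not at hN
    obtain ⟨u, hu⟩ := hN
    rcases Forms.DicksonModular.classify_modular hTH hu with ⟨z, -, hfix⟩ | ⟨c, hc1, hc, h⟩ | ⟨h3, h⟩ | ⟨z, h⟩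
    · exact Or.inl (not_binAct_fix (fun g hg => hfix ⟨g, hg⟩) u.2 (by rw [Subgroup.orderOf_coe]; exact hu) he2)
    · exact Or.inl (hdih c hc1 hc h)
    · refine Or.inr ⟨fun h2 => ?_, Or.inr (Or.inr h)⟩
      subst h3
      have := (CharP.cast_eq_zero_iff F 3 2).1 (by exact_mod_cast h2)
      omega
    · obtain ⟨⟨x, y, hc, hx, hy, hz⟩, hconj⟩ := exists_four (F := F) h4 h5
      rcases transitive_cases p H hH h with hb | hb | hb
      · exact Or.inl (not_binAct hb)
      · exact Or.inl (not_binAct (bad_of_two_mod_four hb hc hx hy hz hconj))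
      · exact Or.inr hb

end Cfsg.Agent.PSLBinary
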