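import Cfsg.Agent.Lib.Forms.KleinPSL
import Cfsg.Agent.Lib.Classical.GL2

/-!
# Elementary facts about `SL₂` and `PSL₂`
-/

set_option autoImplicit false
set_option linter.unusedSectionVars false

namespace Cfsg.Agent.PSLBinary

open Matrix
open scoped MatrixGroups
open Cfsg.Agent.Forms (KleinPSL.pi)
open Cfsg.Agent.Classical.GL2 (uniSL lowSL coe_uniSL coe_lowSL)

variable {F : Type*} [Field F] [Fintype F]

local notation "M2" => Matrix (Fin 2) (Fin 2) F
local notation "π" => KleinPSL.pi F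

theorem sl2_ext {X Y : SL(2, F)} (h00 : (X : M2) 0 0 = (Y : M2) 0 0) (h01 : (X : M2) 0 1 = (Y : M2) 0 1)
    (h10 : (X : M2) 1 0 = (Y : M2) 1 0) (h11 : (X : M2) 1 1 = (Y : M2) 1 1) : X = Y := by
  refine Subtype.ext (Matrix.ext fun i j => ?_)
  fin_cases i <;> fin_cases j <;> assumption

theorem sl2_det (X : SL(2, F)) : (X : M2) 0 0 * (X : M2) 1 1 - (X : M2) 0 1 * (X : M2) 1 0 = 1 := by
  rw [← det_fin_two]; exact X.2

/-- The diagonal element. -/
def diag (a : Fˣ) : SL(2, F) := ⟨!![(a : F), 0; 0, ((a⁻¹ : Fˣ) : F)], by simp [det_fin_two]⟩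

theorem coe_diag (a : Fˣ) : (diag a : M2) = !![(a : F), 0; 0, ((a⁻¹ : Fˣ) : F)] := rfl

/-- The Weyl element. -/
def weyl : SL(2, F) := ⟨!![0, -1; 1, 0], by simp [det_fin_two]⟩

theorem coe_weyl : ((weyl : SL(2, F)) : M2) = !![0, -1; 1, 0] := rfl

theorem coe_inv_two (X : SL(2, F)) :
    ((X⁻¹ : SL(2, F)) : M2) = !![(X : M2) 1 1, -(X : M2) 0 1; -(X : M2) 1 0, (X : M2) 0 0] := by
  rw [Matrix.SpecialLinearGroup.coe_inv, adjugate_fin_two]

theorem eq_one_or_neg_one {X : SL(2, F)} (h01 : (X : M2) 0 1 = 0) (h10 : (X : M2) 1 0 = 0)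
    (h : (X : M2) 0 0 = (X : M2) 1 1) : X = 1 ∨ X = -1 := by
  have hd := sl2_det X
  rw [h01, h10, ← h, mul_zero, sub_zero] at hd
  rcases mul_self_eq_one_iff.1 hd with e | e
  · left; apply sl2_ext <;> simp [h01, h10, ← h, e]
  · right; apply sl2_ext <;> simp [h01, h10, ← h, e]

theorem pi_ne_one {X : SL(2, F)} : π X ≠ 1 ↔
    ¬ ((X : M2) 0 1 = 0 ∧ (X : M2) 1 0 = 0 ∧ (X : M2) 0 0 = (X : M2) 1 1) := by
  rw [not_iff_not, Forms.KleinPSL.pi_eq_one]
  constructor
  · rintro (rfl | rfl) <;> simp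
  · rintro ⟨h1, h2, h3⟩
    exact eq_one_or_neg_one h1 h2 h3

/-- Commuting with an element that is not scalar is transitive. -/
theorem commute_of_commute {G X Y : SL(2, F)} (hG : π G ≠ 1) (hX : G * X = X * G) (hY : G * Y = Y * G) :
    X * Y = Y * X := by
  rw [pi_ne_one] at hG
  have eX := fun i j => congrArg (fun Z : SL(2, F) => (Z : M2) i j) hX
  have eY := fun i j => congrArg (fun Z : SL(2, F) => (Z : M2) i j) hY
  have a00 := eX 0 0
  have a01 := eX 0 1
  have a10 := eX 1 0
  have b00 := eY 0 0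
  have b01 := eY 0 1
  have b10 := eY 1 0
  simp [Matrix.mul_apply, Fin.sum_univ_two] at a00 a01 a10 b00 b01 b10
  set x := (G : M2) 0 0
  set y := (G : M2) 0 1
  set z := (G : M2) 1 0
  set w := (G : M2) 1 1
  set a := (X : M2) 0 0
  set b := (X : M2) 0 1
  set c := (X : M2) 1 0
  set d := (X : M2) 1 1
  set a' := (Y : M2) 0 0
  set b' := (Y : M2) 0 1
  set c' := (Y : M2) 1 0
  set d' := (Y : M2) 1 1
  have k1 : b * c' = c * b' := by
    by_cases hy : y = 0
    · by_cases hz : z = 0
      · have hxw : x ≠ w := fun e => hG ⟨hy, hz, e⟩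
        rw [hy] at a01 b01
        have hb : b = 0 := mul_left_cancel₀ (sub_ne_zero.2 hxw) (by linear_combination a01)
        have hb' : b' = 0 := mul_left_cancel₀ (sub_ne_zero.2 hxw) (by linear_combination b01)
        rw [hb, hb', zero_mul, mul_zero]
      · refine mul_left_cancel₀ hz ?_
        linear_combination -c' * a00 + c * b00
    · refine mul_left_cancel₀ hy ?_
      linear_combination -b' * a00 + b * b00
  have k2 : b * (d' - a') = b' * (d - a) := by
    by_cases hy : y = 0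
    · by_cases hz : z = 0
      · have hxw : x ≠ w := fun e => hG ⟨hy, hz, e⟩
        rw [hy] at a01 b01
        have hb : b = 0 := mul_left_cancel₀ (sub_ne_zero.2 hxw) (by linear_combination a01)
        have hb' : b' = 0 := mul_left_cancel₀ (sub_ne_zero.2 hxw) (by linear_combination b01)
        rw [hb, hb', zero_mul, zero_mul]
      · have hb : b = 0 := mul_left_cancel₀ hz (by rw [hy] at a00; linear_combination -a00)
        have hb' : b' = 0 := mul_left_cancel₀ hz (by rw [hy] at b00; linear_combination -b00)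
        rw [hb, hb', zero_mul, zero_mul]
    · refine mul_left_cancel₀ hy ?_
      linear_combination b * b01 - b' * a01
  have k3 : c * (d' - a') = c' * (d - a) := by
    by_cases hz : z = 0
    · by_cases hy : y = 0
      · have hxw : x ≠ w := fun e => hG ⟨hy, hz, e⟩
        rw [hz] at a10 b10
        have hb : c = 0 := mul_left_cancel₀ (sub_ne_zero.2 hxw) (by linear_combination -a10)
        have hb' : c' = 0 := mul_left_cancel₀ (sub_ne_zero.2 hxw) (by linear_combination -b10)
        rw [hb, hb', zero_mul, zero_mul]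
      · have hb : c = 0 := mul_left_cancel₀ hy (by rw [hz] at a00; linear_combination a00)
        have hb' : c' = 0 := mul_left_cancel₀ hy (by rw [hz] at b00; linear_combination b00)
        rw [hb, hb', zero_mul, zero_mul]
    · refine mul_left_cancel₀ hz ?_
      linear_combination -c * b10 + c' * a10
  apply sl2_ext <;> simp [Matrix.mul_apply, Fin.sum_univ_two]
  all_goals first
    | linear_combination k1
    | linear_combination -k1
    | linear_combination k2
    | linear_combination -k2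
    | linear_combination k3
    | linear_combination -k3

theorem pi_commute_of {X Y : SL(2, F)} (h : X * Y = Y * X) : π X * π Y = π Y * π X := by
  rw [← map_mul, h, map_mul]

/-- An element given by its entries. -/
def mkSL (a b c d : F) (h : a * d - b * c = 1) : SL(2, F) :=
  ⟨!![a, b; c, d], by rw [det_fin_two_of]; exact h⟩

@[simp] theorem coe_mkSL (a b c d : F) (h : a * d - b * c = 1) :
    (mkSL a b c d h : M2) = !![a, b; c, d] := rfl

/-- The companion element. -/
def comp (τ : F) : SL(2, F) := ⟨!![0, -1; 1, τ], by simp [det_fin_two]⟩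

theorem coe_comp (τ : F) : ((comp τ : SL(2, F)) : M2) = !![0, -1; 1, τ] := rfl

section finite

theorem exists_sq_eq (h2 : (2 : F) = 0) (a : F) : ∃ r : F, r * r = a := by
  have hc : ringChar F = 2 := by
    haveI : CharP F 2 := CharTwo.of_one_ne_zero_of_two_eq_zero one_ne_zero h2
    exact ringChar.eq F 2
  obtain ⟨r, hr⟩ := FiniteField.isSquare_of_char_two hc a
  exact ⟨r, hr.symm⟩

theorem exists_quad (h2 : (2 : F) ≠ 0) {e c₂ : F} (c₁ c₀ : F) (he : e ≠ 0) (hc : c₂ ≠ 0) :
    ∃ u b : F, e * u ^ 2 + (c₂ * b ^ 2 + c₁ * b + c₀) = 0 := by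
  open Polynomial in
  obtain ⟨u, b, h⟩ := FiniteField.exists_root_sum_quadratic
    (f := C e * X ^ 2 + C 0 * X + C 0) (g := C c₂ * X ^ 2 + C c₁ * X + C c₀)
    (Polynomial.degree_quadratic he) (Polynomial.degree_quadratic hc) (by
      refine FiniteField.odd_card_of_char_ne_two fun hc' => h2 ?_
      haveI := ringChar.of_eq hc'
      exact CharTwo.two_eq_zero)
  exact ⟨u, b, by simpa using h⟩

/-- An element of trace `τ ≠ ±2` is conjugate to the companion element. -/
theorem exists_conj_comp (X : SL(2, F)) {τ : F} (hτ : (X : M2).trace = τ) (h4 : τ ^ 2 ≠ 4) :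
    ∃ g : SL(2, F), g * comp τ * g⁻¹ = X := by
  rw [trace_fin_two] at hτ
  set a := (X : M2) 0 0 with ha
  set b := (X : M2) 0 1 with hb
  set c := (X : M2) 1 0 with hc
  set d := (X : M2) 1 1 with hd
  have hdet : a * d - b * c = 1 := sl2_det X
  obtain ⟨v₁, v₂, hv⟩ : ∃ v₁ v₂ : F, c * v₁ ^ 2 + (d - a) * v₁ * v₂ - b * v₂ ^ 2 = 1 := by
    by_cases hc0 : c = 0
    · have hda : d - a ≠ 0 := fun e => h4 (by
        rw [← hτ, sub_eq_zero.1 e] ; rw [hc0, sub_eq_zero.1 e] at hdet; linear_combination 4 * hdet)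
      exact ⟨(1 + b) / (d - a), 1, by rw [hc0]; field_simp; ring⟩
    by_cases h2 : (2 : F) = 0
    · obtain ⟨r, hr⟩ := exists_sq_eq h2 c⁻¹
      exact ⟨r, 0, by linear_combination c * hr + mul_inv_cancel₀ hc0⟩
    · obtain ⟨u, t, hu⟩ := exists_quad h2 (c₂ := -((τ ^ 2 - 4) / (4 * c))) 0 (-1) hc0
        (neg_ne_zero.2 (div_ne_zero (sub_ne_zero.2 h4)
          (mul_ne_zero (by rw [show (4 : F) = 2 * 2 by norm_num]; exact mul_ne_zero h2 h2) hc0)))
      refine ⟨u - (d - a) * t / (2 * c), t, ?_⟩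
      have h4' : (4 : F) ≠ 0 := by rw [show (4 : F) = 2 * 2 by norm_num]; exact mul_ne_zero h2 h2
      field_simp at hu ⊢
      rw [← hτ] at hu
      linear_combination hu + 4 * t ^ 2 * hdet
  refine ⟨mkSL v₁ (a * v₁ + b * v₂) v₂ (c * v₁ + d * v₂) (by linear_combination hv), ?_⟩
  refine mul_inv_eq_iff_eq_mul.2 ?_
  apply sl2_ext <;> simp [Matrix.SpecialLinearGroup.coe_mul, coe_comp, Matrix.mul_apply, Fin.sum_univ_two, ← ha, ← hb, ← hc, ← hd]
  all_goals first
    | linear_combination (0 : F) * hdet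
    | (rw [← hτ]; linear_combination v₁ * hdet)
    | (rw [← hτ]; linear_combination -v₁ * hdet)
    | (rw [← hτ]; linear_combination v₂ * hdet)
    | (rw [← hτ]; linear_combination -v₂ * hdet)

theorem isConj_of_trace {X Y : SL(2, F)} (h : (X : M2).trace = (Y : M2).trace)
    (h4 : (X : M2).trace ^ 2 ≠ 4) : IsConj X Y := by
  obtain ⟨g, hg⟩ := exists_conj_comp X rfl h4
  obtain ⟨k, hk⟩ := exists_conj_comp Y h.symm h4
  exact isConj_iff.2 ⟨k * g⁻¹, by rw [← hg, ← hk]; group⟩

/-- Two non-commuting elements with prescribed traces. -/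
theorem exists_pair {τ τ' σ : F} (h4 : τ ^ 2 ≠ 4)
    (hκ : τ ^ 2 + τ' ^ 2 + σ ^ 2 - τ * τ' * σ - 4 ≠ 0) : ∃ X Y : SL(2, F), (X : M2).trace = τ ∧
      (Y : M2).trace = τ' ∧ ((X⁻¹ * Y : SL(2, F)) : M2).trace = σ ∧ X * Y ≠ Y * X := by
  obtain ⟨a, b, hab⟩ : ∃ a b : F, a ^ 2 + b ^ 2 - τ * a * b - τ' * a + σ * b + 1 = 0 := by
    by_cases h2 : (2 : F) = 0
    · by_cases hτ : τ = 0
      · exfalso; exact h4 (by rw [hτ]; linear_combination (-2 : F) * h2)
      · obtain ⟨r, hr⟩ := exists_sq_eq h2 (-((τ' / τ) ^ 2 - σ * τ' / τ + 1))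
        exact ⟨r, -(τ' / τ), by field_simp at hr ⊢; linear_combination hr⟩
    · obtain ⟨u, t, hu⟩ := exists_quad h2 (e := 1) (c₂ := 1 - τ ^ 2 / 4) (σ - τ * τ' / 2)
        (1 - τ' ^ 2 / 4) one_ne_zero (fun e => h4 (by
          have h4' : (4 : F) ≠ 0 := by rw [show (4 : F) = 2 * 2 by norm_num]; exact mul_ne_zero h2 h2
          field_simp at e; linear_combination -e))
      refine ⟨u + (τ * t + τ') / 2, t, ?_⟩
      have h4' : (4 : F) ≠ 0 := by rw [show (4 : F) = 2 * 2 by norm_num]; exact mul_ne_zero h2 h2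
      field_simp at hu ⊢
      first
        | linear_combination hu
        | exact mul_left_cancel₀ h2 (by linear_combination hu)
  refine ⟨comp τ, mkSL a b (σ - τ * a + b) (τ' - a) (by linear_combination -hab), ?_, ?_, ?_,
    fun e => hκ ?_⟩
  · simp [coe_comp, trace_fin_two]
  · simp [trace_fin_two]
  · simp [Matrix.SpecialLinearGroup.coe_mul, coe_comp, coe_inv_two, trace_fin_two, Matrix.mul_apply, Fin.sum_univ_two]
    ring
  · have e00 := congrArg (fun Z : SL(2, F) => (Z : M2) 0 0) e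
    have e01 := congrArg (fun Z : SL(2, F) => (Z : M2) 0 1) e
    simp [Matrix.SpecialLinearGroup.coe_mul, coe_comp, Matrix.mul_apply, Fin.sum_univ_two] at e00 e01
    obtain ⟨c, hc, ha⟩ : ∃ c, σ - τ * a + b = c ∧ τ' - a = a + τ * c :=
      ⟨_, rfl, by linear_combination τ * e00 - e01⟩
    have hb : b = -c := by linear_combination -e00 - hc
    have hσ : σ = τ * a + 2 * c := by linear_combination hc - hb
    have hτ' : τ' = 2 * a + τ * c := by linear_combination ha
    subst hσ hτ' hb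
    linear_combination (τ ^ 2 - 4) * hab

end finite

end Cfsg.Agent.PSLBinary
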