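import Cfsg.Agent.Lib.PSLBinary.Upper
import Cfsg.Agent.Lib.Suzuki.Binary.Additive

/-!
# Coset actions on subgroups of the upper triangular subgroup
-/

set_option autoImplicit false
set_option linter.unusedSectionVars false

namespace Cfsg.Agent.PSLBinary

open Matrix
open scoped MatrixGroups
open Cfsg.Agent.Suzuki.Binary (BinAct IsConjOf Bad mem_conj_iff smul_mk_eq_iff)
open Cfsg.Agent.Classical.GL2 (uniSL lowSL coe_uniSL coe_lowSL)

variable {F : Type*} [Field F] [Fintype F]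

local notation "M2" => Matrix (Fin 2) (Fin 2) F
local notation "π" => Forms.KleinPSL.pi F
local notation "PG" => Matrix.ProjectiveSpecialLinearGroup (Fin 2) F

theorem exists_square_moving (V : AddSubgroup F) (hne : V ≠ ⊥) (htop : V ≠ ⊤) :
    ∃ t : Fˣ, ∃ v ∈ V, (t : F) ^ 2 * v ∉ V := by
  classical
  by_contra hcon
  push Not at hcon
  obtain ⟨v, hv, hv0⟩ := V.bot_or_exists_ne_zero.resolve_left hne
  refine htop (eq_top_iff.2 fun x _ => ?_)
  have hsq : ∀ r : F, ∀ u ∈ V, r ^ 2 * u ∈ V := fun r u hu => by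
    rcases eq_or_ne r 0 with rfl | hr
    · simpa using V.zero_mem
    · exact hcon (Units.mk0 r hr) u hu
  obtain ⟨r, r', hr⟩ : ∃ r r' : F, r ^ 2 + r' ^ 2 = x / v := by
    by_cases h2 : (2 : F) = 0
    · obtain ⟨r, hr⟩ := exists_sq_eq h2 (x / v)
      exact ⟨r, 0, by rw [← hr]; ring⟩
    · obtain ⟨u, b, h⟩ := exists_quad h2 (e := (1 : F)) (c₂ := 1) 0 (-(x / v)) one_ne_zero one_ne_zero
      exact ⟨u, b, by linear_combination h⟩
  have := V.add_mem (hsq r v hv) (hsq r' v hv)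
  rwa [← add_mul, hr, div_mul_cancel₀ _ hv0] at this

/-- A torus element and a proper group of translations. -/
theorem bad_tor_proper {H : Subgroup PG} (hH : IsUpper H) {s : Fˣ} (hs : π (diag s) ∈ H)
    (hs2 : (s : F) ^ 2 ≠ 1) (hne : transPar H ≠ ⊥) (htop : transPar H ≠ ⊤) : Bad H := by
  obtain ⟨t, v, hv, hp⟩ := exists_square_moving _ hne htop
  obtain ⟨r₀, hr₀⟩ : ∃ r, r ∉ transPar H := by
    by_contra h
    push Not at h
    exact htop (eq_top_iff.2 fun x _ => h x)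
  set p := (t : F) ^ 2 * v with hpdef
  set r := (t : F) ^ 2 * r₀ with hrdef
  have hsi : π (diag s⁻¹) ∈ H := by rw [← diag_inv, map_inv]; exact H.inv_mem hs
  have hsi2 : ((s⁻¹ : Fˣ) : F) ^ 2 ≠ 1 := by simpa using hs2
  set A := H.map (MulAut.conj (π weyl)).toMonoidHom
  set B := H.map (MulAut.conj (π (uniSL p))).toMonoidHom
  set C := H.map (MulAut.conj (π (uniSL r * diag t))).toMonoidHom
  have hxA : π (diag s) ∈ A := by
    rw [mem_conj_iff, ← map_inv, ← map_mul, ← map_mul]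
    rw [show (weyl : SL(2, F))⁻¹ * diag s * weyl = diag s⁻¹ by
      rw [mul_assoc, ← inv_inv s, ← weyl_diag, inv_mul_cancel_left, inv_inv]]
    exact hsi
  have hyB : π (uniSL p * diag s * (uniSL p)⁻¹) ∈ B := ⟨π (diag s), hs, by simp [map_mul, map_inv]⟩
  have hzC : (π (diag s))⁻¹ * π (uniSL p * diag s * (uniSL p)⁻¹) ∈ C := by
    rw [mem_conj_iff, ← map_inv, ← map_inv, ← map_mul, ← map_mul, ← map_mul]
    have e : (uniSL r * diag t)⁻¹ * ((diag s)⁻¹ * (uniSL p * diag s * (uniSL p)⁻¹)) * (uniSL r * diag t) =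
        (uniSL ((((s⁻¹ : Fˣ) : F) ^ 2 - 1) * v) : SL(2, F)) := by
      rw [show (diag s)⁻¹ * (uniSL p * diag s * (uniSL p)⁻¹) =
          (diag s⁻¹ * uniSL p * (diag s⁻¹)⁻¹) * (uniSL p)⁻¹ by
        rw [← diag_inv s, inv_inv]; simp [mul_assoc], diag_uni, mul_inv_cancel_right,
        Classical.GL2.uniSL_inv, Classical.GL2.uniSL_mul, _root_.mul_inv_rev,
        Classical.GL2.uniSL_inv, show ∀ P Q R S T : SL(2, F), P * Q * R * (S * T) = P * (Q * R * S) * T from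
          fun P Q R S T => by simp [mul_assoc], Classical.GL2.uniSL_mul, Classical.GL2.uniSL_mul, diag_inv,
        diag_uni, ← diag_inv, inv_mul_cancel_right]
      congr 1
      rw [hpdef]
      have : (t : F) ≠ 0 := t.ne_zero
      simp only [Units.val_inv_eq_inv_val]
      field_simp
      ring
    rw [e]
    show _ ∈ transPar H
    rw [sub_mul, one_mul]
    exact (transPar H).sub_mem (transPar_scale hsi hv) hv
  refine ⟨A, B, C, ⟨_, rfl⟩, ⟨_, rfl⟩, ⟨_, rfl⟩, _, hxA, _, hyB, hzC, fun g hgA hgB hgC => ?_⟩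
  obtain ⟨G, rfl⟩ := Forms.KleinPSL.pi_surjective g
  rw [mem_conj_iff, ← map_inv, ← map_mul, ← map_mul] at hgA hgB
  have h01 : (G : M2) 0 1 = 0 := by
    have := hH _ hgA
    simpa [Matrix.SpecialLinearGroup.coe_mul, coe_weyl, coe_inv_two, Matrix.adjugate_fin_two, Matrix.mul_apply, Matrix.vecMul,
      dotProduct, Fin.sum_univ_two] using this
  have h10 : (G : M2) 1 0 = 0 := by
    have := hH _ hgB
    simpa [Matrix.SpecialLinearGroup.coe_mul, coe_uniSL, coe_inv_two, Matrix.adjugate_fin_two, Matrix.mul_apply, Matrix.vecMul,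
      dotProduct, Fin.sum_univ_two] using this
  obtain ⟨a, hae, hGe⟩ := eq_diag_mul_uni h10
  rw [h01, zero_div, Classical.GL2.uniSL_zero, mul_one] at hGe
  subst hGe
  rw [show (weyl : SL(2, F))⁻¹ * diag a * weyl = diag a⁻¹ by
      rw [mul_assoc, ← inv_inv a, ← weyl_diag, inv_mul_cancel_left, inv_inv]] at hgA
  have ha : π (diag a) ∈ H := by rw [← inv_inv a, ← diag_inv, map_inv]; exact H.inv_mem hgA
  have ha2 : (a : F) ^ 2 = 1 := by
    by_contra ha2
    refine hp (transPar_cancel ha ha2 ?_)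
    have e : uniSL ((1 - (a : F) ^ 2) * p) = ((uniSL p)⁻¹ * diag a * uniSL p * (diag a)⁻¹)⁻¹ := by
      rw [mul_assoc ((uniSL p : SL(2, F))⁻¹), diag_uni, ← mul_assoc (uniSL p : SL(2, F))⁻¹, mul_inv_cancel_right,
        Classical.GL2.uniSL_inv, Classical.GL2.uniSL_mul, Classical.GL2.uniSL_inv]
      congr 1; ring
    show π (uniSL _) ∈ H
    rw [e, map_inv, map_mul, map_inv]
    exact H.inv_mem (H.mul_mem hgB (H.inv_mem ha))
  have hg1 : π (diag a) = 1 := by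
    refine Forms.KleinPSL.pi_eq_one.2 (eq_one_or_neg_one (by simp [coe_diag]) (by simp [coe_diag]) ?_)
    simp only [coe_diag, of_apply, cons_val', cons_val_zero, cons_val_one, cons_val_fin_one]
    rw [Units.val_inv_eq_inv_val]
    refine (eq_inv_of_mul_eq_one_left ?_)
    rw [← pow_two]; exact ha2
  rw [hg1, mul_one, mem_conj_iff, ← map_inv, ← map_inv, ← map_mul, ← map_mul] at hgC
  have e : (uniSL r * diag t)⁻¹ * (diag s)⁻¹ * (uniSL r * diag t) =
      (diag s⁻¹ * uniSL ((1 - (s : F) ^ 2) * r₀) : SL(2, F)) := by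
    rw [_root_.mul_inv_rev, Classical.GL2.uniSL_inv, diag_inv, diag_inv, diag_uni]
    apply sl2_ext <;>
      simp [Matrix.SpecialLinearGroup.coe_mul, coe_diag, coe_uniSL, Matrix.mul_apply, Matrix.vecMul,
        dotProduct, Fin.sum_univ_two, hrdef] <;>
      (try field_simp) <;> (try ring)
  rw [e, map_mul] at hgC
  exact hr₀ (transPar_cancel hs hs2 ((H.mul_mem_cancel_left hsi).1 hgC))

theorem coset_eq {H : Subgroup PG} (hfull : transPar H = ⊤) {X Y : SL(2, F)} {μ : Fˣ}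
    (hμ : π (diag μ) ∈ H) (h0 : (X : M2) 0 0 = μ * (Y : M2) 0 0) (h1 : (X : M2) 1 0 = μ * (Y : M2) 1 0) :
    (π X : PG ⧸ H) = (π Y : PG ⧸ H) := by
  refine (QuotientGroup.eq.2 ?_).symm
  rw [← map_inv, ← map_mul]
  have hd := sl2_det Y
  have h10 : ((Y⁻¹ * X : SL(2, F)) : M2) 1 0 = 0 := by
    simp [Matrix.SpecialLinearGroup.coe_mul, coe_inv_two, Matrix.adjugate_fin_two, Matrix.mul_apply, Fin.sum_univ_two, h0, h1]
    ring
  obtain ⟨a, hae, he⟩ := eq_diag_mul_uni h10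
  have : a = μ := Units.ext (by
    rw [hae]
    simp [Matrix.SpecialLinearGroup.coe_mul, coe_inv_two, Matrix.adjugate_fin_two, Matrix.mul_apply, Fin.sum_univ_two, h0, h1]
    linear_combination (μ : F) * hd)
  subst this
  rw [he, map_mul]
  exact H.mul_mem hμ (mem_transPar.1 (by rw [hfull]; trivial))

theorem col_of_coset_eq {H : Subgroup PG} (hH : IsUpper H) {X Y : SL(2, F)}
    (h : (π X : PG ⧸ H) = (π Y : PG ⧸ H)) :
    ∃ m : F, (X : M2) 0 0 = m * (Y : M2) 0 0 ∧ (X : M2) 1 0 = m * (Y : M2) 1 0 := by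
  have h' := QuotientGroup.eq.1 h.symm
  rw [← map_inv, ← map_mul] at h'
  have h10 := hH _ h'
  refine ⟨((Y⁻¹ * X : SL(2, F)) : M2) 0 0, ?_, ?_⟩
  all_goals
    have e := congrArg (fun Z : SL(2, F) => (Z : M2)) (mul_inv_cancel_left Y X)
    simp only [Matrix.SpecialLinearGroup.coe_mul Y] at e
    first
      | (have e0 := congrFun (congrFun e 0) 0
         simp only [Matrix.mul_apply, Fin.sum_univ_two, h10, mul_zero, add_zero] at e0
         linear_combination -e0)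
      | (have e0 := congrFun (congrFun e 1) 0
         simp only [Matrix.mul_apply, Fin.sum_univ_two, h10, mul_zero, add_zero] at e0
         linear_combination -e0)

/-- All translations and a torus element: four vectors. -/
theorem not_binAct_tor_full {H : Subgroup PG} (hH : IsUpper H) {s : Fˣ} (hs : π (diag s) ∈ H)
    (hs2 : (s : F) ^ 2 ≠ 1) (hfull : transPar H = ⊤) : ¬ BinAct PG H := by
  intro hb
  set a := (s : F) with ha
  have ha0 : a ≠ 0 := s.ne_zero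
  have ha1 : a + 1 ≠ 0 := fun e => hs2 (by linear_combination (a - 1) * e)
  set c := 1 / (a + 1) with hc
  let g₄ : SL(2, F) := mkSL c (-1) 1 0 (by ring)
  let g₄' : SL(2, F) := mkSL (a * c) (-1) 1 0 (by ring)
  have h1 : π (diag (1 : Fˣ)) ∈ H := by rw [diag_one, map_one]; exact H.one_mem
  have hsi : π (diag s⁻¹) ∈ H := by rw [← diag_inv, map_inv]; exact H.inv_mem hs
  set P₁ : PG ⧸ H := ((π 1 : PG) : PG ⧸ H)
  set P₂ : PG ⧸ H := ((π weyl : PG) : PG ⧸ H)
  set P₃ : PG ⧸ H := ((π (lowSL 1) : PG) : PG ⧸ H)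
  set P₄ : PG ⧸ H := ((π g₄ : PG) : PG ⧸ H)
  set Q₄ : PG ⧸ H := ((π g₄' : PG) : PG ⧸ H)
  have act : ∀ (K X Y : SL(2, F)) (μ : Fˣ), π (diag μ) ∈ H →
      ((K * X : SL(2, F)) : M2) 0 0 = μ * (Y : M2) 0 0 → ((K * X : SL(2, F)) : M2) 1 0 = μ * (Y : M2) 1 0 →
      π K • ((π X : PG) : PG ⧸ H) = (π Y : PG) := fun K X Y μ hμ e0 e1 => by
    have := coset_eq hfull hμ e0 e1
    rwa [map_mul] at this
  have p14 : ∃ g : PG, g • P₁ = P₁ ∧ g • P₄ = Q₄ := by
    refine ⟨π (uniSL ((a - 1) * c)), act _ _ _ 1 h1 ?_ ?_, act _ _ _ 1 h1 ?_ ?_⟩ <;>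
      simp [g₄, g₄', Matrix.SpecialLinearGroup.coe_mul, coe_uniSL, Matrix.mul_apply, Fin.sum_univ_two]
    ring
  have p24 : ∃ g : PG, g • P₂ = P₂ ∧ g • P₄ = Q₄ := by
    refine ⟨π (mkSL a 0 ((1 - 1 / a) * (a + 1)) (1 / a) (by field_simp; ring)),
      act _ _ _ s⁻¹ hsi ?_ ?_, act _ _ _ 1 h1 ?_ ?_⟩ <;>
      simp [g₄, g₄', Matrix.SpecialLinearGroup.coe_mul, coe_weyl, Matrix.mul_apply, Fin.sum_univ_two, ← ha]
    rw [hc]
    field_simp
    ring
  have p34 : ∃ g : PG, g • P₃ = P₃ ∧ g • P₄ = Q₄ := by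
    refine ⟨π (mkSL (1 + 1 / a - a) (a - 1 / a) (1 / a - a) (1 + a - 1 / a) (by field_simp; ring)),
      act _ _ _ 1 h1 ?_ ?_, act _ _ _ s hs ?_ ?_⟩ <;>
      simp [g₄, g₄', Matrix.SpecialLinearGroup.coe_mul, coe_lowSL, Matrix.mul_apply, Fin.sum_univ_two, ← ha,
        hc] <;>
      field_simp <;> ring
  have p12 : ∃ g : PG, g • P₁ = P₁ ∧ g • P₂ = P₂ := ⟨1, one_smul _ _, one_smul _ _⟩
  have p13 : ∃ g : PG, g • P₁ = P₁ ∧ g • P₃ = P₃ := ⟨1, one_smul _ _, one_smul _ _⟩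
  have p23 : ∃ g : PG, g • P₂ = P₂ ∧ g • P₃ = P₃ := ⟨1, one_smul _ _, one_smul _ _⟩
  obtain ⟨g, hg⟩ := hb 4 ![P₁, P₂, P₃, P₄] ![P₁, P₂, P₃, Q₄] (by norm_num) (by
    have q21 := p12.imp fun _ h => h.symm
    have q31 := p13.imp fun _ h => h.symm
    have q32 := p23.imp fun _ h => h.symm
    have q41 := p14.imp fun _ h => h.symm
    have q42 := p24.imp fun _ h => h.symm
    have q43 := p34.imp fun _ h => h.symm
    intro i j hij
    fin_cases i <;> fin_cases j <;>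
      first
        | exact absurd rfl hij
        | exact p12 | exact p13 | exact p14 | exact p23 | exact p24 | exact p34
        | exact q21 | exact q31 | exact q32 | exact q41 | exact q42 | exact q43)
  obtain ⟨K, rfl⟩ := Forms.KleinPSL.pi_surjective g
  have col : ∀ X Y : SL(2, F), π K • ((π X : PG) : PG ⧸ H) = (π Y : PG) →
      ∃ m : F, ((K * X : SL(2, F)) : M2) 0 0 = m * (Y : M2) 0 0 ∧
        ((K * X : SL(2, F)) : M2) 1 0 = m * (Y : M2) 1 0 := fun X Y e => by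
    refine col_of_coset_eq hH ?_
    rw [map_mul]; exact e
  obtain ⟨m₁, a0, a1⟩ := col 1 1 (hg 0)
  obtain ⟨m₂, b0, b1⟩ := col weyl weyl (hg 1)
  obtain ⟨m₃, c0, c1⟩ := col (lowSL 1) (lowSL 1) (hg 2)
  obtain ⟨m₄, d0, d1⟩ := col g₄ g₄' (hg 3)
  simp [g₄, g₄', Matrix.SpecialLinearGroup.coe_mul, coe_weyl, coe_lowSL, Matrix.mul_apply,
    Fin.sum_univ_two] at a0 a1 b0 b1 c0 c1 d0 d1
  have hd := sl2_det K
  have hc0 : c ≠ 0 := by rw [hc]; exact one_div_ne_zero ha1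
  rw [a1, b0] at hd
  rw [b0] at c0 d0
  rw [a1] at c1 d1
  simp at hd c0 c1 d0 d1
  have hAD : (K : M2) 0 0 = (K : M2) 1 1 := c0.trans c1.symm
  rw [← d1, hAD] at d0
  have hD : (K : M2) 1 1 ≠ 0 := fun e => by rw [e, mul_zero] at hd; exact zero_ne_one hd
  refine hs2 ?_
  have : a = 1 := by
    have e : (K : M2) 1 1 * (c * (a - 1)) = 0 := by linear_combination -d0
    rcases mul_eq_zero.1 e with e | e
    · exact absurd e hD
    · exact sub_eq_zero.1 ((mul_eq_zero.1 e).resolve_left hc0)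
  rw [this, one_pow]

/-- A unipotent group in odd characteristic. -/
theorem bad_unipotent_odd (h2 : (2 : F) ≠ 0) {H : Subgroup PG}
    (hall : ∀ X : SL(2, F), π X ∈ H → ∃ b, π X = π (uniSL b)) {b : F} (hb : b ≠ 0)
    (hbH : π (uniSL b) ∈ H) : Bad H := by
  have hnb : π (uniSL (-b)) ∈ H := by rw [← Classical.GL2.uniSL_inv, map_inv]; exact H.inv_mem hbH
  set A := H
  set B := H.map (MulAut.conj (π (weyl * diag (Units.mk0 (2 / b) (div_ne_zero h2 hb))))).toMonoidHom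
  set C := H.map (MulAut.conj (π (lowSL (-2 / b)))).toMonoidHom
  have hd2 : (2 / b : F) ≠ 0 := div_ne_zero h2 hb
  have h4 : (4 : F) ≠ 0 := by rw [show (4 : F) = 2 * 2 by norm_num]; exact mul_ne_zero h2 h2
  have hyB : π (lowSL (4 / b)) ∈ B := by
    refine ⟨_, hnb, ?_⟩
    show π (weyl * diag _) * π (uniSL (-b)) * (π (weyl * diag _))⁻¹ = _
    rw [← map_inv, ← map_mul, ← map_mul]
    congr 1
    rw [mul_inv_eq_iff_eq_mul]
    apply sl2_ext <;>
      simp [Matrix.SpecialLinearGroup.coe_mul, coe_diag, coe_uniSL, coe_weyl, coe_lowSL, Matrix.mul_apply,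
        Fin.sum_univ_two] <;>
      (try field_simp) <;> (try ring)
  have hzC : (π (uniSL b))⁻¹ * π (lowSL (4 / b)) ∈ C := by
    refine ⟨_, hbH, ?_⟩
    show π (lowSL (-2 / b)) * π (uniSL b) * (π (lowSL (-2 / b)))⁻¹ = _
    rw [← map_inv, ← map_inv, ← map_mul, ← map_mul, ← map_mul, ← Forms.KleinPSL.pi_neg ((uniSL b)⁻¹ * _)]
    congr 1
    rw [mul_inv_eq_iff_eq_mul]
    apply sl2_ext <;>
      simp [Matrix.SpecialLinearGroup.coe_mul, coe_uniSL, coe_lowSL, coe_inv_two, Matrix.adjugate_fin_two, Matrix.mul_apply,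
        Fin.sum_univ_two] <;>
      (try field_simp) <;> (try ring)
  refine ⟨A, B, C, isConjOf_refl _, ⟨_, rfl⟩, ⟨_, rfl⟩, _, hbH, _, hyB, hzC, fun g hgA hgB hgC => ?_⟩
  obtain ⟨G, rfl⟩ := Forms.KleinPSL.pi_surjective g
  obtain ⟨k, hk⟩ := hall G hgA
  rw [hk, mem_conj_iff, ← map_inv, ← map_mul, ← map_mul] at hgB
  obtain ⟨l, hl⟩ := hall _ hgB
  have h10 := entry_zero_of_pi_eq hl (i := 1) (j := 0) (by simp [coe_uniSL])
  simp [Matrix.SpecialLinearGroup.coe_mul, coe_diag, coe_uniSL, coe_weyl, coe_inv_two, Matrix.adjugate_fin_two, Matrix.mul_apply,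
    Fin.sum_univ_two] at h10
  have hk0 : k = 0 := by
    by_contra hk0
    simp [hk0, hb, h2] at h10
  rw [hk, hk0, Classical.GL2.uniSL_zero, map_one, mul_one, mem_conj_iff, ← map_inv, ← map_inv, ← map_mul,
    ← map_mul] at hgC
  obtain ⟨l', hl'⟩ := hall _ hgC
  have h10' := entry_zero_of_pi_eq hl' (i := 1) (j := 0) (by simp [coe_uniSL])
  simp [Matrix.SpecialLinearGroup.coe_mul, coe_lowSL, coe_uniSL, coe_inv_two, Matrix.adjugate_fin_two, Matrix.mul_apply,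
    Fin.sum_univ_two] at h10'
  field_simp at h10'
  ring_nf at h10'
  simp [hb, h2, h4] at h10'

/-- A proper group of translations in characteristic two. -/
theorem bad_additive [CharP F 2] {H : Subgroup PG}
    (hall : ∀ X : SL(2, F), π X ∈ H → ∃ b, π X = π (uniSL b)) (hne : transPar H ≠ ⊥)
    (htop : transPar H ≠ ⊤) : Bad H := by
  obtain ⟨n, -, hn⟩ := FiniteField.card F 2
  obtain ⟨t, s, v, v₁, v₂, ht, hs, hv, hv₁, hv₂, heq, hno⟩ :=
    Cfsg.Agent.Suzuki.Binary.distFail_gen hn (transPar H) hne htop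
  have h2 : (2 : F) = 0 := CharTwo.two_eq_zero
  have root : ∀ z : F, z ≠ 0 → ∃ σ : Fˣ, (σ : F) ^ 2 = z := fun z hz => by
    obtain ⟨r, hr⟩ := exists_sq_eq h2 z
    exact ⟨Units.mk0 r (fun e => hz (by rw [← hr, e, zero_mul])), by rw [Units.val_mk0, pow_two, hr]⟩
  obtain ⟨σ, hσ⟩ := root t ht
  obtain ⟨ρ, hρ⟩ := root s hs
  have hscale : ∀ (τ : Fˣ) (b : F), π (diag τ) * π (uniSL b) * (π (diag τ))⁻¹ =
      π (uniSL ((τ : F) ^ 2 * b)) := fun τ b => by
    rw [← map_inv, ← map_mul, ← map_mul, diag_uni, mul_inv_cancel_right]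
  have hinj : ∀ b c : F, π (uniSL b) = π (uniSL c) → b = c := fun b c h => by
    rcases Forms.KleinPSL.pi_eq_iff.1 h with e | e <;>
      have e' := congrArg (fun Z : SL(2, F) => (Z : M2) 0 1) e <;>
      simp [coe_uniSL] at e'
    · exact e'
    · rw [e', CharTwo.neg_eq]
  refine ⟨H, H.map (MulAut.conj (π (diag σ))).toMonoidHom, H.map (MulAut.conj (π (diag ρ))).toMonoidHom,
    isConjOf_refl H, ⟨_, rfl⟩, ⟨_, rfl⟩, π (uniSL v), hv, π (uniSL (t * v₁)), ⟨_, hv₁, ?_⟩,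
    ⟨_, hv₂, ?_⟩, ?_⟩
  · show π (diag σ) * π (uniSL v₁) * (π (diag σ))⁻¹ = _
    rw [hscale, hσ]
  · show π (diag ρ) * π (uniSL v₂) * (π (diag ρ))⁻¹ = _
    rw [hscale, hρ, ← map_inv, ← map_mul, Classical.GL2.uniSL_inv, Classical.GL2.uniSL_mul, ← heq,
      CharTwo.neg_eq]
  · rintro g hgA ⟨g₁, hg₁, rfl⟩ ⟨w, hw, hwe⟩
    obtain ⟨G₁, rfl⟩ := Forms.KleinPSL.pi_surjective g₁
    obtain ⟨u₁, hu₁⟩ := hall G₁ hg₁
    obtain ⟨W, rfl⟩ := Forms.KleinPSL.pi_surjective w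
    obtain ⟨w', hw'⟩ := hall W hw
    rw [hu₁] at hg₁
    rw [hw'] at hw
    change π (diag σ) * π G₁ * (π (diag σ))⁻¹ ∈ H at hgA
    change π (diag ρ) * π W * (π (diag ρ))⁻¹ =
      (π (uniSL v))⁻¹ * (π (diag σ) * π G₁ * (π (diag σ))⁻¹) at hwe
    rw [hu₁, hscale, hσ] at hgA
    rw [hu₁, hw', hscale, hscale, hσ, hρ, ← map_inv, ← map_mul, Classical.GL2.uniSL_inv,
      Classical.GL2.uniSL_mul, CharTwo.neg_eq] at hwe
    exact hno (t * u₁) hgA u₁ hg₁ rfl w' hw (hinj _ _ hwe).symm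

end Cfsg.Agent.PSLBinary
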