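import Cfsg.Agent.Lib.PSLBinary.Parity

/-!
# Binary actions of small groups
-/

set_option autoImplicit false
set_option linter.unusedSectionVars false

namespace Cfsg.Agent.PSLBinary

open Cfsg.Agent.Suzuki.Binary (BinAct IsConjOf Bad not_binAct)

variable {G : Type*} [Group G] [Finite G]

/-- Two subgroups of prime order, with a product of generators of the same order. -/
theorem bad_of_prime {r : ℕ} [hr : Fact r.Prime] {K : Subgroup G} (hK : Nat.card K = r)
    (hr2 : ¬ r ^ 2 ∣ Nat.card G) {x y : G} (hx : orderOf x = r) (hy : orderOf y = r)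
    (hz : orderOf (x⁻¹ * y) = r) (hne : x * y ≠ y * x) : Bad K := by
  have get : ∀ w : G, orderOf w = r → IsConjOf K (Subgroup.zpowers w) := by
    intro w hw
    have hfac : (Nat.card G).factorization r = 1 := by
      have h1 : r ∣ Nat.card G := hw ▸ orderOf_dvd_natCard w
      have h0 := (Nat.Prime.dvd_iff_one_le_factorization hr.out Nat.card_pos.ne').1 h1
      have h2 : ¬ 2 ≤ (Nat.card G).factorization r := fun h =>
        hr2 ((hr.out.pow_dvd_iff_le_factorization Nat.card_pos.ne').2 h)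
      omega
    let P : Sylow r G := Sylow.ofCard K (by rw [hK, hfac, pow_one])
    let Q : Sylow r G := Sylow.ofCard (Subgroup.zpowers w) (by rw [Nat.card_zpowers, hw, hfac, pow_one])
    obtain ⟨g, hg⟩ := MulAction.exists_smul_eq G P Q
    refine ⟨g, ?_⟩
    have := congrArg (fun R : Sylow r G => (R : Subgroup G)) hg
    simp only [P, Q, Sylow.coe_subgroup_smul, Sylow.coe_ofCard, Subgroup.pointwise_smul_def] at this
    exact this
  refine ⟨_, _, _, get x hx, get y hy, get _ hz, x, Subgroup.mem_zpowers x, y, Subgroup.mem_zpowers y,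
    Subgroup.mem_zpowers _, fun g hgA hgB hgC => ?_⟩
  have eq_of : ∀ a b : G, orderOf a = r → orderOf b = r → a ∈ Subgroup.zpowers b →
      Subgroup.zpowers a = Subgroup.zpowers b := fun a b ha hb h =>
    Subgroup.eq_of_le_of_card_ge (Subgroup.zpowers_le.2 h) (by rw [Nat.card_zpowers, Nat.card_zpowers, ha, hb])
  have comm_of : y ∈ Subgroup.zpowers x → False := fun h => by
    obtain ⟨k, hk⟩ := h
    exact hne (by rw [← hk]; exact ((Commute.refl x).zpow_right k).eq)
  by_cases hg1 : g = 1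
  · subst hg1
    rw [mul_one, inv_mem_iff] at hgC
    have h : x⁻¹ * y ∈ Subgroup.zpowers x := by
      rw [eq_of _ _ hx hz hgC]
      exact Subgroup.mem_zpowers _
    exact comm_of ((Subgroup.mul_mem_cancel_left _ (inv_mem (Subgroup.mem_zpowers x))).1 h)
  · have hgo : orderOf g = r := by
      have h := Subgroup.orderOf_dvd_natCard _ hgA
      rw [Nat.card_zpowers, hx] at h
      exact ((Nat.dvd_prime hr.out).1 h).resolve_left fun e => hg1 (orderOf_eq_one_iff.1 e)
    refine comm_of ?_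
    rw [← eq_of g x hgo hx hgA, eq_of g y hgo hy hgB]
    exact Subgroup.mem_zpowers y

/-- A binary doubly transitive action is the whole symmetric group. -/
theorem not_binAct_two_transitive {H : Subgroup G}
    (h2t : ∀ a b c d : G ⧸ H, a ≠ b → c ≠ d → ∃ g : G, g • a = c ∧ g • b = d)
    (hn : 2 ≤ H.index) (hlt : Nat.card G < H.index.factorial) : ¬ BinAct G H := by
  intro hb
  classical
  have : Fintype (G ⧸ H) := Fintype.ofFinite _
  have hcard : Fintype.card (G ⧸ H) = H.index := by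
    rw [← Nat.card_eq_fintype_card]; rfl
  let e := Fintype.equivFin (G ⧸ H)
  have hsurj : Function.Surjective (fun g : G => (MulAction.toPerm g : Equiv.Perm (G ⧸ H))) := by
    intro σ
    obtain ⟨g, hg⟩ := hb (Fintype.card (G ⧸ H)) e.symm (σ ∘ e.symm) (hcard ▸ hn) fun i j hij =>
      h2t _ _ _ _ (e.symm.injective.ne hij) ((σ.injective.comp e.symm.injective).ne hij)
    exact ⟨g, Equiv.ext fun p => by simpa using hg (e p)⟩
  have := Nat.card_le_card_of_surjective _ hsurj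
  rw [Nat.card_perm, Nat.card_eq_fintype_card, hcard] at this
  omega

/-- The facts about `A₄` and `A₅` that the argument uses. -/
structure AltLike (T : Type*) [Group T] : Prop where
  sq : ∀ u : T, u ^ 4 = 1 → u * u = 1
  cyc : ∀ a : T, a * a = 1 → a ≠ 1 → ∀ b : T, b * b = 1 → b ≠ 1 → a ≠ b → a * b = b * a →
    ∃ t : T, t ^ 3 = 1 ∧ t * a = b * t ∧ t * b = a * b * t
  cen : ∀ i : T, i * i = 1 → i ≠ 1 → ∀ j : T, j * j = 1 → i * j = j * i → j ≠ 1 → j ≠ i →
    ∀ k : T, k * k = 1 → i * k = k * i → j * k = k * j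
  inv : ∃ i : T, i * i = 1 ∧ i ≠ 1
  small : ∀ K : Subgroup T, K ≠ ⊥ → K ≠ ⊤ → Nat.card K ≠ 4 → ¬ BinAct T K

theorem alt4_conj : ∀ a : alternatingGroup (Fin 4), a * a = 1 → a ≠ 1 → ∀ b : alternatingGroup (Fin 4),
    b * b = 1 → b ≠ 1 → ∃ c : alternatingGroup (Fin 4), c * a * c⁻¹ = b := by decide +kernel

theorem alt4_four : ∃ x y : alternatingGroup (Fin 4), x * x = 1 ∧ x ≠ 1 ∧ y * y = 1 ∧ y ≠ 1 ∧
    x * y = y * x ∧ x * y ≠ 1 := by decide +kernel

theorem alt4_three : ∃ x y : alternatingGroup (Fin 4), x ^ 3 = 1 ∧ x ≠ 1 ∧ y ^ 3 = 1 ∧ y ≠ 1 ∧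
    (x⁻¹ * y) ^ 3 = 1 ∧ x⁻¹ * y ≠ 1 ∧ x * y ≠ y * x := by decide +kernel

theorem perm4_three : ∃ x y : Equiv.Perm (Fin 4), x ^ 3 = 1 ∧ x ≠ 1 ∧ y ^ 3 = 1 ∧ y ≠ 1 ∧
    (x⁻¹ * y) ^ 3 = 1 ∧ x⁻¹ * y ≠ 1 ∧ x * y ≠ y * x := by decide +kernel

theorem natCard_alt (n : ℕ) (hn : 2 ≤ n) : 2 * Nat.card (alternatingGroup (Fin n)) = n.factorial := by
  have : Nontrivial (Fin n) := Fin.nontrivial_iff_two_le.2 hn
  rw [Nat.card_eq_fintype_card, two_mul_card_alternatingGroup, Fintype.card_perm, Fintype.card_fin]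

theorem alt4_small (K : Subgroup (alternatingGroup (Fin 4))) (hb : K ≠ ⊥) (ht : K ≠ ⊤)
    (h4 : Nat.card K ≠ 4) : ¬ BinAct (alternatingGroup (Fin 4)) K := by
  have h12 : Nat.card (alternatingGroup (Fin 4)) = 12 := by
    have := natCard_alt 4 (by norm_num)
    rw [show Nat.factorial 4 = 24 from rfl] at this
    omega
  have hd : Nat.card K ∣ 12 := h12 ▸ K.card_subgroup_dvd_card
  have h1 : Nat.card K ≠ 1 := fun e => hb (Subgroup.eq_bot_of_card_eq _ e)
  have hne : Nat.card K ≠ 12 := fun e => ht (Subgroup.eq_top_of_card_eq _ (e.trans h12.symm))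
  have hle := Nat.le_of_dvd (by norm_num) hd
  have hcases : Nat.card K % 4 = 2 ∨ Nat.card K = 3 := by
    generalize Nat.card K = m at *
    interval_cases m <;> omega
  have : Fact (Nat.Prime 2) := ⟨Nat.prime_two⟩
  have : Fact (Nat.Prime 3) := ⟨Nat.prime_three⟩
  rcases hcases with h | h
  · obtain ⟨x, y, hx, hx1, hy, hy1, hc, hxy⟩ := alt4_four
    refine not_binAct (bad_of_two_mod_four h hc (orderOf_eq_prime (by rw [pow_two, hx]) hx1)
      (orderOf_eq_prime (by rw [pow_two, hy]) hy1) (orderOf_eq_prime ?_ hxy) fun a b ha hb => ?_)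
    · rw [Commute.mul_pow hc, pow_two, pow_two, hx, hy, one_mul]
    · rw [orderOf_eq_prime_iff, pow_two] at ha hb
      exact isConj_iff.2 (alt4_conj a ha.1 ha.2 b hb.1 hb.2)
  · obtain ⟨x, y, hx, hx1, hy, hy1, hz, hz1, hne⟩ := alt4_three
    exact not_binAct (bad_of_prime h (by rw [h12]; norm_num) (orderOf_eq_prime hx hx1)
      (orderOf_eq_prime hy hy1) (orderOf_eq_prime hz hz1) hne)

set_option synthInstance.maxSize 1024 in
theorem altLike_four : AltLike (alternatingGroup (Fin 4)) where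
  sq := by decide +kernel
  cyc := by decide +kernel
  cen := by decide +kernel
  inv := by decide +kernel
  small := alt4_small

/-- A non-trivial square that is an involution: the four-group of `S₄`. -/
def IsV {T : Type*} [Group T] (w : T) : Prop := w ≠ 1 ∧ w * w = 1 ∧ ∃ u, u * u = w

instance decIsV (w : Equiv.Perm (Fin 4)) : Decidable (IsV w) := by
  unfold IsV; infer_instance

set_option synthInstance.maxSize 2048 in
theorem perm4_gen : ∀ c : Equiv.Perm (Fin 4), c ^ 3 = 1 → c ≠ 1 → ∀ k : Equiv.Perm (Fin 4),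
    k ≠ 1 → k ≠ c → k ≠ c * c → (k * k = 1 ∧ k * c = c * c * k) ∨
      IsV k ∨ IsV (k * k) ∨ IsV (k * c) ∨ IsV (k * (c * c)) ∨ IsV (k * c * (k * c)) := by decide +kernel

theorem perm4_cent : ∀ c : Equiv.Perm (Fin 4), c ^ 3 = 1 → c ≠ 1 → ∀ k : Equiv.Perm (Fin 4),
    k * c = c * k → k = 1 ∨ k = c ∨ k = c * c := by decide +kernel

theorem perm4_four : ∀ c : Equiv.Perm (Fin 4), c ^ 3 = 1 → c ≠ 1 → ∀ w : Equiv.Perm (Fin 4), IsV w →
    IsV (c * w * c⁻¹) ∧ c * w * c⁻¹ ≠ w ∧ w * (c * w * c⁻¹) = c * w * c⁻¹ * w := by decide +kernel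

theorem perm4_comm : ∀ c : Equiv.Perm (Fin 4), c ^ 3 = 1 → c ≠ 1 → ∀ h : Equiv.Perm (Fin 4),
    h * h = 1 → h ≠ 1 → h * (c * h * c⁻¹) = c * h * c⁻¹ * h → IsV h := by decide +kernel

set_option synthInstance.maxSize 2048 in
theorem perm4_trans : ∀ w : Equiv.Perm (Fin 4), IsV w → ∀ w' : Equiv.Perm (Fin 4), IsV w' → w ≠ w' →
    ∀ v : Equiv.Perm (Fin 4), IsV v → ∀ v' : Equiv.Perm (Fin 4), IsV v' → v ≠ v' →
      ∃ h : Equiv.Perm (Fin 4), h * w = v * h ∧ h * w' = v' * h := by decide +kernel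

theorem perm4_conj : ∀ c : Equiv.Perm (Fin 4), c ^ 3 = 1 → c ≠ 1 → ∀ d : Equiv.Perm (Fin 4), d ^ 3 = 1 →
    d ≠ 1 → ∃ h : Equiv.Perm (Fin 4), h * c * h⁻¹ = d := by decide +kernel

theorem perm4_quarter : ∃ u : Equiv.Perm (Fin 4), u ^ 4 = 1 ∧ u * u ≠ 1 := by decide +kernel

theorem perm3_quarter : ∀ σ : Equiv.Perm (Fin 3), σ ^ 4 = 1 → σ * σ = 1 := by decide +kernel

end Cfsg.Agent.PSLBinary
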