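import Cfsg.Agent.Lib.PSLBinary.Classify
import Cfsg.Agent.Lib.PSLBinary.Small
import Cfsg.Agent.S0252

/-!
# Binary coset actions of `PSL₂(q)`
-/

set_option autoImplicit false
set_option linter.unusedSectionVars false

namespace Cfsg.Agent.PSLBinary

open Matrix
open scoped MatrixGroups
open Cfsg.Agent.Suzuki.Binary (BinAct IsConjOf Bad not_binAct binAct_bot)

variable {F : Type*} [Field F] [Fintype F]

local notation "PG" => Matrix.ProjectiveSpecialLinearGroup (Fin 2) F

theorem two_eq_zero_of_pow {a : ℕ} (hq : Fintype.card F = 2 ^ a) : (2 : F) = 0 := by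
  have : Fact (Nat.Prime 2) := ⟨Nat.prime_two⟩
  have : CharP F 2 := charP_of_card_eq_prime_pow hq
  exact CharTwo.two_eq_zero

theorem natCard_sylow (h2 : (2 : F) = 0) (P : Sylow 2 PG) : Nat.card P = Fintype.card F := by
  have : Fact (Nat.Prime 2) := ⟨Nat.prime_two⟩
  obtain ⟨P₀, hP₀⟩ := exists_sylow_unip (F := F) h2
  calc Nat.card P = Nat.card P₀ := Nat.card_congr (P.equiv P₀).toEquiv
    _ = Nat.card (unip F) := Nat.card_congr (MulEquiv.subgroupCongr hP₀).toEquiv
    _ = _ := natCard_unip h2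

/-- In even characteristic. -/
theorem not_binAct_even (h2 : (2 : F) = 0) (h4 : 4 ≤ Fintype.card F) {H : Subgroup PG} (hH : H ≠ ⊤)
    (hne : H ≠ ⊥) (he2 : Nat.card H ≠ Fintype.card F)
    (he3 : ¬ ((∃ a, Odd a ∧ Fintype.card F = 2 ^ a) ∧ Nat.card H = 3)) : ¬ BinAct PG H := by
  have h5 : Fintype.card F ≠ 5 := fun e => by
    have : Fact (Nat.Prime 5) := ⟨Nat.prime_five⟩
    have : CharP F 5 := charP_of_card_eq_prime_pow (p := 5) (f := 1) (by rw [pow_one]; exact e)
    have := (CharP.cast_eq_zero_iff F 5 2).1 (by exact_mod_cast h2)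
    omega
  exact (not_binAct_cases h4 h5 hH hne (fun h => he2 h.2) he3).resolve_right fun h => h.1 h2

theorem alt5_small (K : Subgroup (alternatingGroup (Fin 5))) (hb : K ≠ ⊥) (ht : K ≠ ⊤)
    (h4 : Nat.card K ≠ 4) : ¬ BinAct (alternatingGroup (Fin 5)) K := by
  intro hbin
  have : Fact (Nat.Prime 2) := ⟨Nat.prime_two⟩
  let F4 := GaloisField 2 2
  haveI : Fintype F4 := Fintype.ofFinite _
  have hq : Fintype.card F4 = 4 := by
    rw [← Nat.card_eq_fintype_card, GaloisField.card 2 2 (by norm_num)]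
    norm_num
  obtain ⟨e⟩ := S0252.result hq
  have hinj : Function.Injective (Subgroup.map e.symm.toMonoidHom) := Subgroup.map_injective e.symm.injective
  refine not_binAct_even (CharTwo.two_eq_zero) hq.ge (H := K.map e.symm.toMonoidHom)
    (fun h => ht (hinj (h.trans (Subgroup.map_top_of_surjective _ e.symm.surjective).symm)))
    (fun h => hb (hinj (h.trans (Subgroup.map_bot _).symm)))
    (fun h => h4 (((Subgroup.card_map_of_injective e.symm.injective).symm.trans h).trans hq))
    (fun ⟨⟨a, ha, hqa⟩, _⟩ => ?_) (binAct_map e.symm hbin)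
  rw [hq] at hqa
  obtain rfl : a = 2 := Nat.pow_right_injective le_rfl (hqa.symm.trans (by norm_num))
  exact absurd ha (by decide)

set_option synthInstance.maxSize 2048 in
theorem altLike_five : AltLike (alternatingGroup (Fin 5)) where
  sq := by decide +kernel
  cyc := by decide +kernel
  cen := by decide +kernel
  inv := by decide +kernel
  small := alt5_small

theorem main (h4 : 4 ≤ Fintype.card F) (h5 : Fintype.card F ≠ 5) (H : Subgroup PG) (hH : H ≠ ⊤) :
    BinAct PG H ↔ (H = ⊥ ∨ ((∃ a : ℕ, Fintype.card F = 2 ^ a) ∧ ∃ P : Sylow 2 PG, H = P) ∨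
      ((∃ a : ℕ, Odd a ∧ Fintype.card F = 2 ^ a) ∧ Nat.card H = 3)) := by
  have : Fact (Nat.Prime 2) := ⟨Nat.prime_two⟩
  constructor
  · intro hb
    by_contra hno
    simp only [not_or] at hno
    obtain ⟨hne, hs, he3⟩ := hno
    have he2 : ¬ ((2 : F) = 0 ∧ Nat.card H = Fintype.card F) := by
      rintro ⟨h2, hc⟩
      haveI : CharP F 2 := CharTwo.of_one_ne_zero_of_two_eq_zero one_ne_zero h2
      obtain ⟨n, -, hn⟩ := FiniteField.card F 2
      obtain ⟨P⟩ : Nonempty (Sylow 2 PG) := inferInstance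
      refine hs ⟨⟨n, hn⟩, Sylow.ofCard H ?_, (Sylow.coe_ofCard _ _).symm⟩
      rw [hc, ← natCard_sylow h2 P, P.card_eq_multiplicity]
    rcases not_binAct_cases h4 h5 hH hne he2 he3 with h | ⟨h2, hshape⟩
    · exact h hb
    have h7 : 7 ≤ Fintype.card F := by
      have := ringChar.charP F
      have hodd : Fintype.card F % 2 = 1 := FiniteField.odd_card_of_char_ne_two fun e => h2 (by
        have := CharP.cast_eq_zero F (ringChar F)
        rw [e] at this
        exact_mod_cast this)
      omega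
    have key : ∀ (T : Type) [Group T] (e : H ≃* T), ∃ f : T →* PG, Function.Injective f ∧ f.range = H := by
      intro T _ e
      refine ⟨H.subtype.comp e.symm.toMonoidHom, H.subtype_injective.comp e.symm.injective, ?_⟩
      rw [MonoidHom.range_comp, MonoidHom.range_eq_top.2 e.symm.surjective, ← MonoidHom.range_eq_map,
        Subgroup.range_subtype]
    rcases hshape with ⟨⟨e⟩⟩ | ⟨⟨e⟩⟩ | ⟨⟨e⟩⟩ <;> obtain ⟨f, hf, hr⟩ := key _ e <;> rw [← hr] at hb
    · exact not_binAct_altLike h2 h7 altLike_four f hf hb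
    · exact not_binAct_perm4 h2 h7 f hf hb
    · exact not_binAct_altLike h2 h7 altLike_five f hf hb
  · rintro (rfl | ⟨⟨a, hq⟩, P, hP⟩ | ⟨⟨a, ha, hq⟩, hc⟩)
    · exact binAct_bot
    · exact binAct_of_card_eq (two_eq_zero_of_pow hq) hP
    · exact binAct_three ha hq hc

end Cfsg.Agent.PSLBinary
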