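import Cfsg.Agent.Lib.PSLBinary.Upper

/-!
# Coset actions on subfield subgroups
-/

set_option autoImplicit false
set_option linter.unusedSectionVars false

namespace Cfsg.Agent.PSLBinary

open Matrix
open scoped MatrixGroups
open Cfsg.Agent.Suzuki.Binary (BinAct IsConjOf Bad mem_conj_iff)
open Cfsg.Agent.Classical.GL2 (uniSL lowSL coe_uniSL coe_lowSL)

variable {F : Type*} [Field F] [Fintype F]

local notation "M2" => Matrix (Fin 2) (Fin 2) F
local notation "π" => Forms.KleinPSL.pi F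
local notation "PG" => Matrix.ProjectiveSpecialLinearGroup (Fin 2) F

/-- A subgroup between the two subfield groups, with a suitable diagonal element. -/
theorem bad_subfield {S : Subfield F} {H : Subgroup PG}
    (huni : ∀ k ∈ S, π (uniSL k) ∈ H)
    (hscal : ∀ X : SL(2, F), π X ∈ H → ∃ l : F, ∀ i j, ∃ k ∈ S, (X : M2) i j = l * k)
    {b : F} (hb : b ∉ S) {s : Fˣ} (hs : π (diag s) ∈ H) (hμ : (s : F) ^ 2 ∈ S)
    (hs4 : (s : F) ^ 4 ≠ 1) : Bad H := by
  set μ := (s : F) ^ 2 with hμdef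
  have hμ0 : μ ≠ 0 := pow_ne_zero _ s.ne_zero
  have hμ1 : 1 + μ ≠ 0 := fun e => hs4 (by rw [hμdef] at e; linear_combination ((s : F) ^ 2 - 1) * e)
  have hμ1' : μ ≠ 1 := fun e => hs4 (by rw [hμdef] at e; linear_combination ((s : F) ^ 2 + 1) * e)
  set c := b * μ / (1 + μ) with hc
  have hcS : c ∉ S := fun h => hb (by
    have e : b = c * (1 + μ) / μ := by rw [hc]; field_simp
    rw [e]; exact S.div_mem (S.mul_mem h (S.add_mem S.one_mem hμ)) hμ)
  set A := H
  set B := H.map (MulAut.conj (π (uniSL b))).toMonoidHom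
  set C := H.map (MulAut.conj (π (uniSL c))).toMonoidHom
  have hxA : π (diag s⁻¹) ∈ A := by rw [← diag_inv, map_inv]; exact H.inv_mem hs
  have hyB : π (uniSL b * diag s * (uniSL b)⁻¹) ∈ B := ⟨π (diag s), hs, by simp [map_mul, map_inv]⟩
  have hzC : (π (diag s⁻¹))⁻¹ * π (uniSL b * diag s * (uniSL b)⁻¹) ∈ C := by
    refine ⟨π (diag (s * s)), by rw [← diag_mul, map_mul]; exact H.mul_mem hs hs, ?_⟩
    show π (uniSL c) * π (diag (s * s)) * (π (uniSL c))⁻¹ = _
    rw [← map_inv, ← map_inv, ← map_mul, ← map_mul, ← map_mul, diag_inv, inv_inv]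
    congr 1
    apply sl2_ext <;>
      simp [Matrix.SpecialLinearGroup.coe_mul, coe_diag, coe_uniSL, coe_inv_two, Matrix.adjugate_fin_two,
        Matrix.mul_apply, Matrix.vecMul, dotProduct, Fin.sum_univ_two, hc, hμdef]
    all_goals (have h : 1 + (s : F) ^ 2 ≠ 0 := hμdef ▸ hμ1)
    all_goals (try field_simp)
    all_goals (try ring)
  refine ⟨A, B, C, isConjOf_refl _, ⟨_, rfl⟩, ⟨_, rfl⟩, _, hxA, _, hyB, hzC, fun g hgA hgB hgC => ?_⟩
  obtain ⟨X, rfl⟩ := Forms.KleinPSL.pi_surjective g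
  rw [mem_conj_iff, ← map_inv, ← map_mul, ← map_mul] at hgB
  obtain ⟨l, hl⟩ := hscal X hgA
  obtain ⟨l', hl'⟩ := hscal _ hgB
  obtain ⟨k00, m00, e00⟩ := hl 0 0
  obtain ⟨k01, m01, e01⟩ := hl 0 1
  obtain ⟨k10, m10, e10⟩ := hl 1 0
  obtain ⟨k11, m11, e11⟩ := hl 1 1
  obtain ⟨q00, n00, f00⟩ := hl' 0 0
  obtain ⟨q01, n01, f01⟩ := hl' 0 1
  obtain ⟨q10, n10, f10⟩ := hl' 1 0
  simp [Matrix.SpecialLinearGroup.coe_mul, coe_uniSL, coe_inv_two, Matrix.adjugate_fin_two,
    Matrix.mul_apply, Matrix.vecMul, dotProduct, Fin.sum_univ_two, e00, e01, e10, e11] at f00 f01 f10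
  have hd := sl2_det X
  rw [e00, e01, e10, e11] at hd
  have hl0 : l ≠ 0 := fun e => by simp [e] at hd
  by_cases h10 : k10 = 0
  swap
  · refine absurd ?_ hb
    have hq : q10 ≠ 0 := fun e => by
      rw [e, mul_zero] at f10
      exact mul_ne_zero hl0 h10 f10
    have hbe : b = (k00 - k10 / q10 * q00) / k10 := by
      rw [eq_div_iff h10]
      field_simp at f00 ⊢
      refine mul_left_cancel₀ hl0 ?_
      linear_combination -q10 * f00 + q00 * f10
    rw [hbe]
    exact S.div_mem (S.sub_mem m00 (S.mul_mem (S.div_mem m10 n10) n00)) m10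
  rw [h10] at hd e10 f00 f01 f10
  simp at hd f00 f01 f10
  have hk00 : k00 ≠ 0 := fun e => by simp [e] at hd
  have hq00 : q00 ≠ 0 := fun e => by
    rw [e, mul_zero] at f00
    exact mul_ne_zero hl0 hk00 f00
  have hk : k00 = k11 := by
    by_contra hne
    refine hb ?_
    have hbe : b = (k00 * q01 / q00 - k01) / (k00 - k11) := by
      rw [eq_div_iff (sub_ne_zero.2 hne)]
      field_simp at f01 ⊢
      refine mul_left_cancel₀ hl0 ?_
      linear_combination q00 * f01 - q01 * f00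
    rw [hbe]
    exact S.div_mem (S.sub_mem (S.div_mem (S.mul_mem m00 n01) n00) m01) (S.sub_mem m00 m11)
  set k := k01 / k00 with hkdef
  have hX : π X = π (uniSL k) := by
    obtain ⟨a, hae, he⟩ := eq_diag_mul_uni (X := X) (by rw [e10, mul_zero])
    have ha2 : (a : F) * a = 1 := by rw [hae, e00]; rw [← hk] at hd; linear_combination hd
    rw [he, show (X : M2) 0 1 / (X : M2) 0 0 = k by rw [e01, e00, mul_div_mul_left _ _ hl0], map_mul,
      Forms.KleinPSL.pi_eq_one.2 (eq_one_or_neg_one (X := diag a) (by simp [coe_diag]) (by simp [coe_diag])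
        (by
          simp only [coe_diag, of_apply, cons_val', cons_val_zero, cons_val_one, cons_val_fin_one,
            Units.val_inv_eq_inv_val]
          exact eq_inv_of_mul_eq_one_left ha2)), one_mul]
  have hkC : π (uniSL k) ∈ C := by
    refine ⟨_, huni k (S.div_mem m01 m00), ?_⟩
    show π (uniSL c) * π (uniSL k) * (π (uniSL c))⁻¹ = _
    rw [← map_inv, ← map_mul, ← map_mul, Classical.GL2.uniSL_inv, Classical.GL2.uniSL_mul,
      Classical.GL2.uniSL_mul, add_neg_cancel_comm]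
  rw [hX, C.mul_mem_cancel_right hkC, inv_mem_iff, mem_conj_iff, ← map_inv, ← map_mul, ← map_mul] at hgC
  obtain ⟨L, hL⟩ := hscal _ hgC
  obtain ⟨p00, r00, g00⟩ := hL 0 0
  obtain ⟨p01, r01, g01⟩ := hL 0 1
  simp [Matrix.SpecialLinearGroup.coe_mul, coe_diag, coe_uniSL, coe_inv_two, Matrix.adjugate_fin_two,
    Matrix.mul_apply, Matrix.vecMul, dotProduct, Fin.sum_univ_two] at g00 g01
  have hs0 : (s : F) ≠ 0 := s.ne_zero
  have hp00 : p00 ≠ 0 := fun e => by simp [e] at g00
  refine hcS ?_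
  have hce : c = p01 / p00 / (1 - μ) := by
    rw [eq_div_iff (sub_ne_zero.2 (Ne.symm hμ1')), eq_div_iff hp00, hμdef]
    field_simp at g00 g01 ⊢
    linear_combination p00 * g01 - p01 * g00
  rw [hce]
  exact S.div_mem (S.div_mem r01 r00) (S.sub_mem S.one_mem hμ)

end Cfsg.Agent.PSLBinary
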