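import Cfsg.Agent.Lib.PSLBinary.Subfield
import Cfsg.Agent.Lib.Forms.DicksonField
import Cfsg.Agent.Lib.Forms.DicksonCor
import Cfsg.Agent.S0251
import Cfsg.Agent.S0253
import Cfsg.Agent.S0266

/-!
# Subgroups of subfield type
-/

set_option autoImplicit false
set_option linter.unusedSectionVars false

namespace Cfsg.Agent.PSLBinary

open Matrix
open scoped MatrixGroups
open Cfsg.Agent.Suzuki.Binary (BinAct IsConjOf Bad mem_conj_iff)
open Cfsg.Agent.Classical.GL2 (uniSL lowSL coe_uniSL coe_lowSL)
open Cfsg.Agent.Forms.DicksonField (pglMap pglMap_mk pglMap_injective natCard_pgl_le transitive_embedding)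

variable {F : Type*} [Field F] [Fintype F]

local notation "M2" => Matrix (Fin 2) (Fin 2) F
local notation "π" => Forms.KleinPSL.pi F
local notation "PG" => Matrix.ProjectiveSpecialLinearGroup (Fin 2) F

theorem det_glConj (γ : GL (Fin 2) F) (X : SL(2, F)) :
    ((γ : M2) * (X : M2) * ((γ⁻¹ : GL (Fin 2) F) : M2)).det = 1 := by
  rw [det_mul, det_mul, X.2, mul_one, ← det_mul, ← Units.val_mul, mul_inv_cancel, Units.val_one, det_one]

/-- Conjugation by a matrix of `GL₂`. -/
def glConj (γ : GL (Fin 2) F) : SL(2, F) ≃* SL(2, F) where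
  toFun X := ⟨_, det_glConj γ X⟩
  invFun X := ⟨((γ⁻¹ : GL (Fin 2) F) : M2) * (X : M2) * (γ : M2), by
    simpa using det_glConj γ⁻¹ X⟩
  left_inv X := Subtype.ext (show _ * (_ * (X : M2) * _) * _ = _ by
    simp [mul_assoc])
  right_inv X := Subtype.ext (show _ * (_ * (X : M2) * _) * _ = _ by
    simp [mul_assoc])
  map_mul' X Y := Subtype.ext (show _ * ((X : M2) * (Y : M2)) * _ = _ * (X : M2) * _ * (_ * (Y : M2) * _) by
    simp [mul_assoc])

theorem toGL_glConj (γ : GL (Fin 2) F) (X : SL(2, F)) :
    Matrix.SpecialLinearGroup.toGL (glConj γ X) = γ * Matrix.SpecialLinearGroup.toGL X * γ⁻¹ :=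
  Units.ext rfl

/-- The automorphism of `PSL₂` induced by a matrix of `GL₂`. -/
noncomputable def pslConj (γ : GL (Fin 2) F) : PG ≃* PG :=
  QuotientGroup.congr _ _ (glConj γ) (by
    ext X
    constructor
    · rintro ⟨Y, hY, rfl⟩
      exact Subgroup.mem_center_iff.2 fun Z => by
        rw [← (glConj γ).apply_symm_apply Z]
        exact (map_mul (glConj γ) _ _).symm.trans
          ((congrArg (glConj γ) (Subgroup.mem_center_iff.1 hY _)).trans (map_mul (glConj γ) _ _))
    · intro hX
      refine ⟨(glConj γ).symm X, Subgroup.mem_center_iff.2 fun Z => (glConj γ).injective ?_,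
        (glConj γ).apply_symm_apply X⟩
      rw [map_mul, map_mul, MulEquiv.apply_symm_apply]
      exact Subgroup.mem_center_iff.1 hX _)

theorem toPGL_pi (X : SL(2, F)) : Matrix.ProjectiveSpecialLinearGroup.toPGL (π X) =
    Matrix.ProjGenLinGroup.mk (Matrix.SpecialLinearGroup.toGL X) := rfl

theorem toPGL_pslConj (γ : GL (Fin 2) F) (g : PG) :
    Matrix.ProjectiveSpecialLinearGroup.toPGL (pslConj γ g) = Matrix.ProjGenLinGroup.mk γ *
      Matrix.ProjectiveSpecialLinearGroup.toPGL g * (Matrix.ProjGenLinGroup.mk γ)⁻¹ := by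
  obtain ⟨X, rfl⟩ := Forms.KleinPSL.pi_surjective g
  show Matrix.ProjectiveSpecialLinearGroup.toPGL (π (glConj γ X)) = _
  rw [toPGL_pi, toPGL_pi, toGL_glConj, map_mul, map_mul, map_inv]

theorem exists_scalar_of_mk_eq {a b : GL (Fin 2) F}
    (h : Matrix.ProjGenLinGroup.mk a = Matrix.ProjGenLinGroup.mk b) :
    ∃ l : F, l ≠ 0 ∧ ∀ i j, (a : M2) i j = l * (b : M2) i j := by
  have h1 : Matrix.ProjGenLinGroup.mk (a * b⁻¹) = 1 := by rw [map_mul, map_inv, h, mul_inv_cancel]
  rw [Matrix.ProjGenLinGroup.mk_eq_one, GeneralLinearGroup.center_eq_range_scalar] at h1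
  obtain ⟨r, hr⟩ := h1
  refine ⟨r, r.ne_zero, fun i j => ?_⟩
  have e : a = GeneralLinearGroup.scalar (Fin 2) r * b := by rw [hr, inv_mul_cancel_right]
  rw [e, Units.val_mul]
  fin_cases i <;> fin_cases j <;> simp [Matrix.mul_apply, Fin.sum_univ_two]

variable (p : ℕ) [hp : Fact p.Prime] [CharP F p]

/-- A proper subgroup of subfield type. -/
theorem transitive_cases (H : Subgroup PG) (hH : H ≠ ⊤) {x : OnePoint (AlgebraicClosure F)}
    (h : Forms.DicksonModular.Transitive' ((Forms.DicksonAction.twoPt (F := F) p).subgroup H) x) :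
    Bad H ∨ Nat.card H % 4 = 2 ∨ ((2 : F) ≠ 0 ∧ (Nonempty (H ≃* alternatingGroup (Fin 4)) ∨
      Nonempty (H ≃* Equiv.Perm (Fin 4)) ∨ Nonempty (H ≃* alternatingGroup (Fin 5)))) := by
  obtain ⟨K, iK, fK, m, f, γ, hm, hlo, hhi⟩ := transitive_embedding p H h
  set H' := H.map (pslConj γ).toMonoidHom with hH'
  have hconj : (H.map Matrix.ProjectiveSpecialLinearGroup.toPGL).map
      (MulAut.conj (Matrix.ProjGenLinGroup.mk γ)).toMonoidHom =
        H'.map Matrix.ProjectiveSpecialLinearGroup.toPGL := by
    rw [hH', Subgroup.map_map, Subgroup.map_map]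
    congr 1
    exact MonoidHom.ext fun g => (toPGL_pslConj γ g).symm
  rw [hconj] at hlo hhi
  have hbad : Bad H' → Bad H := fun hb => by
    have := hb.map (pslConj γ).symm
    rwa [hH', Subgroup.map_map, show (pslConj γ).symm.toMonoidHom.comp (pslConj γ).toMonoidHom =
      MonoidHom.id PG by ext; simp, Subgroup.map_id] at this
  -- the image of `SL₂(K)`
  have hmem : ∀ Y : SL(2, K), π (Matrix.SpecialLinearGroup.map f Y) ∈ H' := by
    intro Y
    obtain ⟨g, hg, e⟩ := hlo ⟨_, ⟨Forms.KleinPSL.pi K Y, rfl⟩, rfl⟩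
    suffices he : π (Matrix.SpecialLinearGroup.map f Y) = g from he ▸ hg
    apply Matrix.ProjectiveSpecialLinearGroup.toPGL_injective
    rw [e]
    show Matrix.ProjGenLinGroup.mk _ = pglMap f (Matrix.ProjGenLinGroup.mk _)
    rw [pglMap_mk]
    congr 1
    ext i j
    rfl
  have huni : ∀ k ∈ f.fieldRange, π (uniSL k) ∈ H' := by
    rintro _ ⟨k, rfl⟩
    have e : Matrix.SpecialLinearGroup.map f (uniSL k) = uniSL (f k) := by
      apply sl2_ext <;> simp [coe_uniSL]
    exact e ▸ hmem _
  have hscal : ∀ X : SL(2, F), π X ∈ H' → ∃ l : F, ∀ i j, ∃ k ∈ f.fieldRange, (X : M2) i j = l * k := by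
    intro X hX
    obtain ⟨N, hN⟩ := hhi ⟨_, hX, rfl⟩
    obtain ⟨N, rfl⟩ := Matrix.ProjGenLinGroup.mk_surjective N
    rw [pglMap_mk, toPGL_pi] at hN
    obtain ⟨l, -, hl⟩ := exists_scalar_of_mk_eq hN.symm
    exact ⟨l, fun i j => ⟨f ((N : Matrix (Fin 2) (Fin 2) K) i j), ⟨_, rfl⟩, hl i j⟩⟩
  obtain ⟨b, hb⟩ : ∃ b : F, b ∉ f.fieldRange := by
    by_contra! hall
    refine hH (Subgroup.map_injective (pslConj γ).injective ?_)
    rw [Subgroup.map_top_of_surjective _ (pslConj γ).surjective, eq_top_iff]
    intro g _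
    obtain ⟨X, rfl⟩ := Forms.KleinPSL.pi_surjective g
    choose N hN using fun i j => hall ((X : M2) i j)
    have hd : (Matrix.of N).det = 1 := f.injective (by
      rw [map_one, det_fin_two, map_sub, map_mul, map_mul]
      simp only [Matrix.of_apply, hN]
      exact sl2_det X)
    have e : Matrix.SpecialLinearGroup.map f (⟨Matrix.of N, hd⟩ : SL(2, K)) = X := by
      apply sl2_ext <;> exact hN _ _
    exact e ▸ hmem _
  by_cases hu : ∃ u : Kˣ, (u : K) ^ 4 ≠ 1
  · obtain ⟨u, hu⟩ := hu
    left
    refine hbad (bad_subfield huni hscal hb (s := Units.map f.toMonoidHom u) ?_ ⟨(u : K) ^ 2, map_pow f _ _⟩ ?_)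
    · have e : Matrix.SpecialLinearGroup.map f (diag u) = diag (Units.map f.toMonoidHom u) := by
        apply sl2_ext <;> simp [coe_diag]
      exact e ▸ hmem _
    · intro e
      exact hu (f.injective (by rw [map_pow, map_one]; exact e))
  push Not at hu
  classical
  have hKle : Fintype.card K ≤ 5 := by
    have hsub : (Finset.univ : Finset Kˣ).card ≤ 4 := by
      have h4 : (Finset.univ : Finset Kˣ) = Finset.univ.filter fun u => u ^ 4 = 1 := by
        ext u; simp [Units.ext_iff, hu u]
      rw [h4]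
      exact IsCyclic.card_pow_eq_one_le (by norm_num)
    rw [Finset.card_univ, Fintype.card_units] at hsub
    omega
  have hK4 : Fintype.card K ≠ 4 := by
    intro hc
    have h3 : Fintype.card Kˣ = 3 := by rw [Fintype.card_units, hc]
    obtain ⟨u, hu1⟩ := Fintype.exists_ne_of_one_lt_card (by rw [h3]; norm_num) (1 : Kˣ)
    refine hu1 ?_
    have h' : u ^ 4 = 1 := Units.ext (by simpa using hu u)
    have h'' : u ^ 3 = 1 := h3 ▸ pow_card_eq_one
    calc u = u ^ 4 * (u ^ 3)⁻¹ := by group
      _ = 1 := by rw [h', h'']; group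
  haveI : Finite (Matrix.ProjGenLinGroup (Fin 2) K) :=
    Finite.of_surjective _ Matrix.ProjGenLinGroup.mk_surjective
  let M : Subgroup (Matrix.ProjGenLinGroup (Fin 2) K) :=
    (H'.map Matrix.ProjectiveSpecialLinearGroup.toPGL).comap (pglMap f)
  let eM : H ≃* M :=
    (((H.equivMapOfInjective _ (pslConj γ).injective).trans
      (H'.equivMapOfInjective _ Matrix.ProjectiveSpecialLinearGroup.toPGL_injective)).trans
        (MulEquiv.subgroupCongr (Subgroup.map_comap_eq_self hhi).symm)).trans
      (M.equivMapOfInjective _ (pglMap_injective f)).symm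
  have hpsl : (Matrix.ProjectiveSpecialLinearGroup.toPGL (n := Fin 2) (R := K)).range ≤ M := by
    rw [← Subgroup.map_le_iff_le_comap]
    exact hlo
  have hcardR : Nat.card (Matrix.ProjectiveSpecialLinearGroup.toPGL (n := Fin 2) (R := K)).range =
      Nat.card (Matrix.ProjectiveSpecialLinearGroup (Fin 2) K) :=
    (Nat.card_congr
      (MonoidHom.ofInjective Matrix.ProjectiveSpecialLinearGroup.toPGL_injective).toEquiv).symm
  have hnotTop : M ≠ ⊤ → Nonempty (H ≃* Matrix.ProjectiveSpecialLinearGroup (Fin 2) K) := by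
    intro hMtop
    have heq : (Matrix.ProjectiveSpecialLinearGroup.toPGL (n := Fin 2) (R := K)).range = M := by
      refine Subgroup.eq_of_le_of_card_ge hpsl ?_
      rw [hcardR]
      have h2 : 2 ≤ M.index := by
        have h1 : M.index ≠ 1 := fun e => hMtop (Subgroup.index_eq_one.1 e)
        have h0 : M.index ≠ 0 := Subgroup.index_ne_zero_of_finite
        omega
      have h3 := M.index_mul_card
      have h4 := natCard_pgl_le K
      have h5 := Nat.mul_le_mul_right (Nat.card M) h2
      omega
    exact ⟨eM.trans ((MulEquiv.subgroupCongr heq.symm).trans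
      (MonoidHom.ofInjective Matrix.ProjectiveSpecialLinearGroup.toPGL_injective).symm)⟩
  have htwo : Fintype.card K ≠ 2 → (2 : F) ≠ 0 := by
    intro hne e
    have h2K : (2 : K) = 0 := f.injective (by rw [map_ofNat, map_zero, e])
    haveI : CharP K 2 := CharTwo.of_one_ne_zero_of_two_eq_zero one_ne_zero h2K
    obtain ⟨n, -, hn⟩ := FiniteField.card K 2
    have : (n : ℕ) ≤ 2 := by
      by_contra hlt
      have := Nat.pow_le_pow_right (show 0 < 2 by norm_num) (show 3 ≤ (n : ℕ) by omega)
      omega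
    have hn0 := n.pos
    interval_cases (n : ℕ)
    · exact hne hn
    · exact hK4 hn
  have hK2 := Fintype.one_lt_card (α := K)
  rcases (show Fintype.card K = 2 ∨ Fintype.card K = 3 ∨ Fintype.card K = 5 by omega) with hc | hc | hc
  · right; left
    have hG := Forms.DicksonCor.gcd_mul_natCard (F := K)
    rw [hc, show Nat.gcd 2 (2 - 1) = 1 from rfl, one_mul] at hG
    by_cases hMtop : M = ⊤
    · have h1 : Nat.card H = Nat.card (Matrix.ProjGenLinGroup (Fin 2) K) := by
        rw [Nat.card_congr eM.toEquiv, hMtop, Subgroup.card_top]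
      have h2 : Nat.card (Matrix.ProjGenLinGroup (Fin 2) K) = 6 := by
        rw [Classical.Linear.natCard_PGL, Classical.GL2.natCard_SL_two, hc]
      omega
    · obtain ⟨e⟩ := hnotTop hMtop
      rw [Nat.card_congr e.toEquiv, hG]
  · refine Or.inr (Or.inr ⟨htwo (by omega), ?_⟩)
    by_cases hMtop : M = ⊤
    · right; left
      obtain ⟨htrans, hfaith⟩ := S0266.result (F := K)
      let P := Projectivization K (Fin 2 → K)
      haveI : Fintype P := Fintype.ofFinite _
      have hP : Fintype.card P = 4 := by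
        rw [← Nat.card_eq_fintype_card, Projectivization.card_of_finrank_two K (Fin 2 → K) (by simp),
          Nat.card_eq_fintype_card, hc]
      have hinj : Function.Injective (MulAction.toPermHom (Matrix.ProjGenLinGroup (Fin 2) K) P) := by
        rw [injective_iff_map_eq_one]
        intro g hg
        obtain ⟨a, b, c, hab, hac, hbc⟩ := Fintype.two_lt_card_iff.1 (show 2 < Fintype.card P by omega)
        have hfix : ∀ z : P, g • z = z := fun z => congrArg (fun σ : Equiv.Perm P => σ z) hg
        exact hfaith g a b c hab hac hbc (hfix a) (hfix b) (hfix c)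
      have hsurj : Function.Surjective (MulAction.toPermHom (Matrix.ProjGenLinGroup (Fin 2) K) P) := by
        intro σ
        let e : Fin 4 ≃ P := (Fintype.equivFinOfCardEq hP).symm
        let x : Fin 3 ↪ P := (Fin.castSuccEmb).trans e.toEmbedding
        obtain ⟨g, hg⟩ := MulAction.exists_smul_eq (Matrix.ProjGenLinGroup (Fin 2) K) x (x.trans σ.toEmbedding)
        refine ⟨g, Equiv.ext fun z => ?_⟩
        have h3 : ∀ i : Fin 3, g • e i.castSucc = σ (e i.castSucc) := fun i =>
          congrArg (fun w : Fin 3 ↪ P => w i) hg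
        obtain ⟨i, rfl⟩ := e.surjective z
        show g • e i = σ (e i)
        cases i using Fin.lastCases with
        | cast i => exact h3 i
        | last =>
          obtain ⟨j, hj⟩ := e.surjective (g⁻¹ • σ (e (Fin.last 3)))
          cases j using Fin.lastCases with
          | cast j =>
            have h' := h3 j
            conv_lhs at h' => rw [hj, smul_inv_smul]
            exact absurd (e.injective (σ.injective h')) (Fin.castSucc_lt_last j).ne'
          | last => exact (congrArg (g • ·) hj).trans (smul_inv_smul g _)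
      exact ⟨(eM.trans ((MulEquiv.subgroupCongr hMtop).trans Subgroup.topEquiv)).trans
        ((MulEquiv.ofBijective _ ⟨hinj, hsurj⟩).trans (Fintype.equivFinOfCardEq hP).permCongrHom)⟩
    · left
      obtain ⟨e⟩ := hnotTop hMtop
      obtain ⟨e'⟩ := S0251.result hc
      exact ⟨e.trans e'⟩
  · by_cases hMtop : M = ⊤
    · left
      have h2K : (2 : K) ≠ 0 := fun e => htwo (by omega) (by rw [← map_ofNat f, e, map_zero])
      let N : GL (Fin 2) K := GeneralLinearGroup.mkOfDetNeZero !![2, 0; 0, 1] (by simp [det_fin_two, h2K])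
      have hN : Matrix.ProjGenLinGroup.mk N ∈ M := hMtop ▸ Subgroup.mem_top _
      obtain ⟨g, hg, e⟩ := hN
      obtain ⟨X, rfl⟩ := Forms.KleinPSL.pi_surjective g
      rw [toPGL_pi, pglMap_mk] at e
      obtain ⟨l, hl0, hl⟩ := exists_scalar_of_mk_eq e
      have hl00 := hl 0 0
      have hl01 := hl 0 1
      have hl10 := hl 1 0
      have hl11 := hl 1 1
      simp [N] at hl00 hl01 hl10 hl11
      rw [show f 2 = (2 : F) from map_ofNat f 2] at hl00
      have hd := sl2_det X
      rw [hl00, hl01, hl10, hl11] at hd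
      have h2l : l * 2 ≠ 0 := mul_ne_zero hl0 (htwo (by omega))
      have eX : X = diag (Units.mk0 (l * 2) h2l) := by
        apply sl2_ext <;> simp [coe_diag, hl00, hl01, hl10, hl11]
        rw [← mul_inv]
        exact eq_inv_of_mul_eq_one_left (by linear_combination hd)
      rw [eX] at hg
      refine hbad (bad_subfield huni hscal hb hg ⟨2, ?_⟩ ?_)
      · rw [map_ofNat, Units.val_mk0]
        linear_combination -2 * hd
      · rw [Units.val_mk0]
        intro e4
        have h5 : (5 : F) = 0 := by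
          have h5K : ((Fintype.card K : ℕ) : K) = 0 := Nat.cast_card_eq_zero K
          rw [hc] at h5K
          rw [← map_ofNat f, show (5 : K) = ((5 : ℕ) : K) by norm_num, h5K, map_zero]
        refine (show (3 : F) ≠ 0 from fun h3 => one_ne_zero (α := F) (by linear_combination 2 * h3 - h5)) ?_
        linear_combination e4 - (4 * l ^ 2 * 2 + 4) * hd
    · refine Or.inr (Or.inr ⟨htwo (by omega), Or.inr (Or.inr ?_)⟩)
      obtain ⟨e⟩ := hnotTop hMtop
      obtain ⟨e'⟩ := S0253.result hc
      exact ⟨e.trans e'⟩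

end Cfsg.Agent.PSLBinary
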