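import Cfsg.Agent.Lib.PSLBinary.Basic
import Cfsg.Agent.Lib.PSLBinary.Criterion

/-!
# Subgroups of the upper triangular subgroup of `PSL₂`
-/

set_option autoImplicit false
set_option linter.unusedSectionVars false

namespace Cfsg.Agent.PSLBinary

open Matrix
open scoped MatrixGroups
open Cfsg.Agent.Suzuki.Binary (BinAct IsConjOf Bad mem_conj_iff)
open Cfsg.Agent.Classical.GL2 (uniSL lowSL coe_uniSL coe_lowSL)

variable {F : Type*} [Field F] [Fintype F]

local notation "M2" => Matrix (Fin 2) (Fin 2) F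
local notation "π" => Forms.KleinPSL.pi F
local notation "PG" => Matrix.ProjectiveSpecialLinearGroup (Fin 2) F

/-- Every element of `H` is upper triangular. -/
def IsUpper (H : Subgroup (Matrix.ProjectiveSpecialLinearGroup (Fin 2) F)) : Prop :=
  ∀ X : SL(2, F), π X ∈ H → (X : M2) 1 0 = 0

theorem entry_zero_of_pi_eq {X Y : SL(2, F)} (h : π X = π Y) {i j : Fin 2} (hY : (Y : M2) i j = 0) :
    (X : M2) i j = 0 := by
  rcases Forms.KleinPSL.pi_eq_iff.1 h with rfl | rfl
  · exact hY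
  · simp [hY]

/-- The parameters of the translations in `H`. -/
def transPar (H : Subgroup (Matrix.ProjectiveSpecialLinearGroup (Fin 2) F)) : AddSubgroup F where
  carrier := {b | π (uniSL b) ∈ H}
  zero_mem' := by
    show π (uniSL (0 : F)) ∈ H
    rw [Classical.GL2.uniSL_zero, map_one]; exact H.one_mem
  add_mem' := fun {a b} ha hb => by
    show π (uniSL (a + b)) ∈ H
    rw [← Classical.GL2.uniSL_mul, map_mul]; exact H.mul_mem ha hb
  neg_mem' := fun {a} ha => by
    show π (uniSL (-a)) ∈ H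
    rw [← Classical.GL2.uniSL_inv, map_inv]; exact H.inv_mem ha

theorem mem_transPar {H : Subgroup PG} {b : F} : b ∈ transPar H ↔ π (uniSL b) ∈ H := Iff.rfl

theorem coe_mul_diag (X : SL(2, F)) (a : Fˣ) : ((X * diag a : SL(2, F)) : M2) =
    !![(X : M2) 0 0 * a, (X : M2) 0 1 * ((a⁻¹ : Fˣ) : F);
      (X : M2) 1 0 * a, (X : M2) 1 1 * ((a⁻¹ : Fˣ) : F)] := by
  ext i j
  fin_cases i <;> fin_cases j <;>
    simp [Matrix.SpecialLinearGroup.coe_mul, coe_diag, Matrix.mul_apply, Fin.sum_univ_two]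

theorem diag_one : diag (1 : Fˣ) = (1 : SL(2, F)) := by
  apply sl2_ext <;> simp [coe_diag]

theorem diag_mul (a b : Fˣ) : diag a * diag b = (diag (a * b) : SL(2, F)) := by
  apply sl2_ext <;> simp [coe_mul_diag, coe_diag, mul_comm]

theorem diag_inv (a : Fˣ) : (diag a : SL(2, F))⁻¹ = diag a⁻¹ :=
  inv_eq_of_mul_eq_one_right (by rw [diag_mul, mul_inv_cancel, diag_one])

/-- Conjugating a translation by a diagonal element. -/
theorem diag_uni (a : Fˣ) (b : F) : diag a * uniSL b = uniSL ((a : F) ^ 2 * b) * diag a := by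
  apply sl2_ext <;>
    simp [Matrix.SpecialLinearGroup.coe_mul, coe_diag, coe_uniSL, Matrix.mul_apply, Fin.sum_univ_two]
  field_simp

theorem weyl_diag (a : Fˣ) : weyl * diag a = diag a⁻¹ * (weyl : SL(2, F)) := by
  apply sl2_ext <;>
    simp [Matrix.SpecialLinearGroup.coe_mul, coe_diag, coe_weyl, Matrix.mul_apply, Fin.sum_univ_two]

/-- An upper triangular element is diagonal times translation. -/
theorem eq_diag_mul_uni {X : SL(2, F)} (h : (X : M2) 1 0 = 0) :
    ∃ a : Fˣ, (a : F) = (X : M2) 0 0 ∧ X = diag a * uniSL ((X : M2) 0 1 / (X : M2) 0 0) := by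
  have hd := sl2_det X
  rw [h, mul_zero, sub_zero] at hd
  have ha : (X : M2) 0 0 ≠ 0 := fun e => by rw [e, zero_mul] at hd; exact zero_ne_one hd
  refine ⟨Units.mk0 _ ha, rfl, ?_⟩
  apply sl2_ext <;>
    simp [Matrix.SpecialLinearGroup.coe_mul, coe_diag, coe_uniSL, Matrix.mul_apply, Fin.sum_univ_two, h]
  · field_simp
  · exact eq_inv_of_mul_eq_one_right hd

theorem transPar_scale {H : Subgroup PG} {a : Fˣ} (ha : π (diag a) ∈ H) {b : F} (hb : b ∈ transPar H) :
    (a : F) ^ 2 * b ∈ transPar H := by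
  have h : uniSL ((a : F) ^ 2 * b) = diag a * uniSL b * (diag a : SL(2, F))⁻¹ := by
    rw [diag_uni, mul_inv_cancel_right]
  rw [mem_transPar, h, map_mul, map_mul, map_inv]
  exact H.mul_mem (H.mul_mem ha hb) (H.inv_mem ha)

/-- `1 - a²` can be cancelled inside the translation parameters. -/
theorem transPar_cancel {H : Subgroup PG} {a : Fˣ} (ha : π (diag a) ∈ H) (hne : (a : F) ^ 2 ≠ 1)
    {x : F} (hx : (1 - (a : F) ^ 2) * x ∈ transPar H) : x ∈ transPar H := by
  let f : transPar H → transPar H := fun b => ⟨(1 - (a : F) ^ 2) * b, by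
    rw [sub_mul, one_mul]; exact (transPar H).sub_mem b.2 (transPar_scale ha b.2)⟩
  have hf : Function.Injective f := fun b c h =>
    Subtype.ext (mul_left_cancel₀ (sub_ne_zero.2 (Ne.symm hne)) (congrArg Subtype.val h))
  obtain ⟨y, hy⟩ := Finite.surjective_of_injective hf ⟨_, hx⟩
  have := mul_left_cancel₀ (sub_ne_zero.2 (Ne.symm hne)) (congrArg Subtype.val hy)
  exact this ▸ y.2

/-- Conjugates of upper triangular subgroups by translations stay upper triangular. -/
theorem isUpper_conj {H : Subgroup PG} (hH : IsUpper H) (β : F) :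
    IsUpper (H.map (MulAut.conj (π (uniSL β))).toMonoidHom) := by
  intro X hX
  rw [mem_conj_iff, ← map_inv, ← map_mul, ← map_mul] at hX
  have := hH _ hX
  simpa [Matrix.SpecialLinearGroup.coe_mul, coe_uniSL, coe_inv_two, Classical.GL2.uniSL_inv,
    Matrix.mul_apply, Matrix.vecMul, dotProduct, Fin.sum_univ_two] using this

/-- An upper triangular subgroup which is not unipotent has a conjugate containing a diagonal element. -/
theorem exists_diag_conj {H : Subgroup PG} (hH : IsUpper H) {X : SL(2, F)} (hX : π X ∈ H)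
    (ha : (X : M2) 0 0 ^ 2 ≠ 1) : ∃ β : F, ∃ a : Fˣ, (a : F) ^ 2 ≠ 1 ∧
      π (diag a) ∈ H.map (MulAut.conj (π (uniSL β))).toMonoidHom := by
  have h10 := hH X hX
  obtain ⟨a, hae, hXe⟩ := eq_diag_mul_uni h10
  set c := (X : M2) 0 1 / (X : M2) 0 0
  have h1 : (a : F) ^ 2 - 1 ≠ 0 := by rw [hae]; exact sub_ne_zero.2 ha
  refine ⟨(a : F) ^ 2 * c / ((a : F) ^ 2 - 1), a, by rw [hae]; exact ha, ?_⟩
  set β := (a : F) ^ 2 * c / ((a : F) ^ 2 - 1) with hβ
  rw [mem_conj_iff, ← map_inv, ← map_mul, ← map_mul, Classical.GL2.uniSL_inv]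
  convert hX using 2
  rw [mul_assoc, diag_uni, ← mul_assoc, Classical.GL2.uniSL_mul,
    show -β + (a : F) ^ 2 * β = (a : F) ^ 2 * c by rw [hβ]; field_simp; ring]
  rw [hXe, ← diag_uni]

/-- Decomposition of an upper triangular subgroup containing a non-central diagonal element. -/
theorem mem_iff_of_diag {H : Subgroup PG} (hH : IsUpper H) {s : Fˣ} (hs : π (diag s) ∈ H)
    (hs2 : (s : F) ^ 2 ≠ 1) {X : SL(2, F)} (hX : π X ∈ H) : ∃ a : Fˣ, ∃ c : F, X = diag a * uniSL c ∧
      c ∈ transPar H ∧ π (diag a) ∈ H := by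
  obtain ⟨a, hae, hXe⟩ := eq_diag_mul_uni (hH X hX)
  set c := (X : M2) 0 1 / (X : M2) 0 0
  refine ⟨a, c, hXe, ?_⟩
  have hc : c ∈ transPar H := by
    have h1 : π ((diag s)⁻¹ * X * diag s * X⁻¹) ∈ H := by
      simp only [map_mul, map_inv]
      exact H.mul_mem (H.mul_mem (H.mul_mem (H.inv_mem hs) hX) hs) (H.inv_mem hX)
    have e : (diag s)⁻¹ * X * diag s * X⁻¹ = uniSL ((a : F) ^ 2 * ((((s⁻¹ : Fˣ) : F) ^ 2 - 1) * c)) := by
      have e1 : (diag s)⁻¹ * X * diag s * X⁻¹ =
          diag a * (diag s⁻¹ * uniSL c * (diag s⁻¹)⁻¹ * (uniSL c)⁻¹) * (diag a)⁻¹ := by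
        rw [hXe, diag_inv s, show (diag s⁻¹ : SL(2, F))⁻¹ = diag s by rw [diag_inv, inv_inv], _root_.mul_inv_rev,
          show diag s⁻¹ * (diag a * uniSL c) = diag a * (diag s⁻¹ * uniSL c) by
            rw [← mul_assoc, diag_mul, mul_comm, ← diag_mul, mul_assoc]]
        simp only [mul_assoc]
      rw [e1, diag_uni, mul_inv_cancel_right, Classical.GL2.uniSL_inv, Classical.GL2.uniSL_mul, diag_uni,
        mul_inv_cancel_right]
      congr 1
      ring
    rw [e] at h1
    have hsi : π (diag s⁻¹) ∈ H := by rw [← diag_inv, map_inv]; exact H.inv_mem hs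
    have hne : ((s⁻¹ : Fˣ) : F) ^ 2 ≠ 1 := by simpa using hs2
    have h2 : (1 - ((s⁻¹ : Fˣ) : F) ^ 2) * (-((a : F) ^ 2 * c)) ∈ transPar H := by
      rw [show (1 - ((s⁻¹ : Fˣ) : F) ^ 2) * (-((a : F) ^ 2 * c)) =
        (a : F) ^ 2 * ((((s⁻¹ : Fˣ) : F) ^ 2 - 1) * c) by ring]
      exact h1
    have h3 := (transPar H).neg_mem (transPar_cancel hsi hne h2)
    rw [neg_neg] at h3
    -- move `a ^ 2` across
    have h4 : π (uniSL ((a : F) ^ 2 * c)) ∈ H := h3
    have h5 : π (diag a) ∈ H := by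
      have e2 : diag a = (uniSL ((a : F) ^ 2 * c))⁻¹ * X := by
        rw [hXe, diag_uni, inv_mul_cancel_left]
      rw [e2, map_mul, map_inv]
      exact H.mul_mem (H.inv_mem h4) hX
    have e3 : uniSL c = (diag a)⁻¹ * X := by rw [hXe, inv_mul_cancel_left]
    show π (uniSL c) ∈ H
    rw [e3, map_mul, map_inv]
    exact H.mul_mem (H.inv_mem h5) hX
  refine ⟨hc, ?_⟩
  have e : diag a = X * (uniSL c)⁻¹ := by rw [hXe, mul_inv_cancel_right]
  rw [e, map_mul, map_inv]
  exact H.mul_mem hX (H.inv_mem hc)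

end Cfsg.Agent.PSLBinary
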